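import Cfsg.Agent.OddOrder.PF3.Family
import Cfsg.Agent.H43.Galois
import Cfsg.Agent.H43.Isometry
import Cfsg.Agent.S1507
import Cfsg.Agent.S1508

/-!
# Peterfalvi section 3: properties of a cyclic TI family

Uniqueness, Galois equivariance, induction of functions supported outside `W₁ ∪ W₂`, and the
identification of norm two virtual characters from their values there.
-/

set_option autoImplicit false

namespace Cfsg.Agent.OddOrder.PF3

open scoped ComplexConjugate
open Cfsg.Agent H43 Finset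

universe u

variable {G : Type u} [Group G] [Fintype G] {W₁ W₂ : Subgroup G}
  {χ : (↥(W₁ ⊔ W₂) →* ℂˣ) → (G → ℂ)}

/-- Two families agree. -/
theorem family_unique (hW : Cfsg.IsSelfNormalizingCyclic W₁ W₂)
    (hodd : Odd (Nat.card ↥(W₁ ⊔ W₂))) (hχ : Cfsg.IsCyclicTIFamily W₁ W₂ χ)
    {χ' : (↥(W₁ ⊔ W₂) →* ℂˣ) → (G → ℂ)} (hχ' : Cfsg.IsCyclicTIFamily W₁ W₂ χ') : χ' = χ :=
  funext fun ω => S1508.signed_unique hW hodd hχ (hχ'.irr_or_neg ω) (hχ'.eq_on ω)

/-- Galois equivariance. -/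
theorem family_aut (hW : Cfsg.IsSelfNormalizingCyclic W₁ W₂) (hodd : Odd (Nat.card ↥(W₁ ⊔ W₂)))
    (hχ : Cfsg.IsCyclicTIFamily W₁ W₂ χ) (σ : ℂ ≃+* ℂ) (ω : ↥(W₁ ⊔ W₂) →* ℂˣ) :
    χ ((Units.map (σ : ℂ →* ℂ)).comp ω) = fun g => σ (χ ω g) := by
  refine (S1508.signed_unique hW hodd hχ (aut_signed σ (hχ.irr_or_neg ω)) fun w h1 h2 => ?_).symm
  rw [hχ.eq_on ω w h1 h2]
  rfl

/-- Complex conjugation. -/
theorem family_inv (hW : Cfsg.IsSelfNormalizingCyclic W₁ W₂) (hodd : Odd (Nat.card ↥(W₁ ⊔ W₂)))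
    (hχ : Cfsg.IsCyclicTIFamily W₁ W₂ χ) (ω : ↥(W₁ ⊔ W₂) →* ℂˣ) :
    χ ω⁻¹ = Cfsg.conjFun (χ ω) := by
  have hs : Signed (Cfsg.conjFun (χ ω)) := by
    rcases hχ.irr_or_neg ω with h | h
    · exact Or.inl (CharInduce.IsIrr.conj h)
    · refine Or.inr ?_
      convert CharInduce.IsIrr.conj h using 1
      funext g
      simp [Cfsg.conjFun]
  refine (S1508.signed_unique hW hodd hχ hs fun w h1 h2 => ?_).symm
  show conj (χ ω w) = _
  rw [hχ.eq_on ω w h1 h2, linear_conj, MonoidHom.inv_apply, map_inv]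

theorem family_injective (hχ : Cfsg.IsCyclicTIFamily W₁ W₂ χ) : Function.Injective χ := by
  intro a b e
  by_contra hne
  have h := hχ.orthonormal a b
  rw [if_neg hne, ← e, hχ.orthonormal a a, if_pos rfl] at h
  exact one_ne_zero h

theorem family_isClassFunction (hχ : Cfsg.IsCyclicTIFamily W₁ W₂ χ) (ω : ↥(W₁ ⊔ W₂) →* ℂˣ) :
    Cfsg.IsClassFunction G (χ ω) :=
  Signed.isClassFunction (hχ.irr_or_neg ω)

theorem isClassFunction_combination (hχ : Cfsg.IsCyclicTIFamily W₁ W₂ χ)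
    (c : (↥(W₁ ⊔ W₂) →* ℂˣ) → ℂ) : Cfsg.IsClassFunction G (∑ ω, c ω • χ ω) := fun x y => by
  simp only [Finset.sum_apply, Pi.smul_apply]
  exact sum_congr rfl fun ω _ => by rw [family_isClassFunction hχ ω x y]

theorem classInner_combination (hχ : Cfsg.IsCyclicTIFamily W₁ W₂ χ)
    (c : (↥(W₁ ⊔ W₂) →* ℂˣ) → ℂ) (η : ↥(W₁ ⊔ W₂) →* ℂˣ) :
    Cfsg.classInner (∑ ω, c ω • χ ω) (χ η) = c η := by
  classical
  simp [CharBasic.classInner_sum_left, CharBasic.classInner_smul_left, hχ.orthonormal]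

/-- Functions agreeing where `f` is nonzero pair equally with `f`. -/
theorem classInner_congr_right {X : Type u} [Group X] [Fintype X] {f F F' : X → ℂ}
    (h : ∀ x, f x ≠ 0 → F x = F' x) : Cfsg.classInner f F = Cfsg.classInner f F' := by
  simp only [CharBasic.classInner_def]
  congr 1
  refine sum_congr rfl fun x _ => ?_
  by_cases hx : f x = 0
  · simp [hx]
  · rw [h x hx]

/-- A class function pairing as a function `f` supported outside `W₁ ∪ W₂` is the combination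
of the family given by the coefficients of `f`. -/
theorem eq_sum_of_pairing [Fintype ↥(W₁ ⊔ W₂)] (hW : Cfsg.IsSelfNormalizingCyclic W₁ W₂)
    (hχ : Cfsg.IsCyclicTIFamily W₁ W₂ χ) {f : ↥(W₁ ⊔ W₂) → ℂ}
    (hf : ∀ w : ↥(W₁ ⊔ W₂), (w : G) ∈ W₁ ∨ (w : G) ∈ W₂ → f w = 0) {β : G → ℂ}
    (hβ : Cfsg.IsClassFunction G β)
    (hpair : ∀ F : G → ℂ, Cfsg.IsClassFunction G F →
      Cfsg.classInner β F = Cfsg.classInner f (fun w => F w)) :
    β = ∑ ω, Cfsg.classInner f (fun w => (ω w : ℂ)) • χ ω := by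
  classical
  set γ : G → ℂ := ∑ ω, Cfsg.classInner f (fun w => (ω w : ℂ)) • χ ω with hγ
  have hγc : Cfsg.IsClassFunction G γ := isClassFunction_combination hχ _
  have hθc : Cfsg.IsClassFunction G (β - γ) := fun x y => by
    show β (y * x * y⁻¹) - γ (y * x * y⁻¹) = β x - γ x
    rw [hβ x y, hγc x y]
  have hV : ∀ w : ↥(W₁ ⊔ W₂), f w ≠ 0 → (w : G) ∉ W₁ ∧ (w : G) ∉ W₂ := fun w hw =>
    ⟨fun h => hw (hf w (Or.inl h)), fun h => hw (hf w (Or.inr h))⟩
  have horth : ∀ η, Cfsg.classInner (β - γ) (χ η) = 0 := by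
    intro η
    rw [CharBasic.classInner_sub_left, hγ, classInner_combination hχ, hpair _
      (family_isClassFunction hχ η), sub_eq_zero]
    exact classInner_congr_right fun w hw => hχ.eq_on η w (hV w hw).1 (hV w hw).2
  have h0 : Cfsg.classInner (β - γ) (β - γ) = 0 := by
    have h1 : Cfsg.classInner β (β - γ) = 0 := by
      rw [hpair _ hθc, CharBasic.classInner_def, sum_eq_zero, mul_zero]
      intro w _
      by_cases hw : f w = 0
      · simp [hw]
      · rw [family_orth_zero hW hχ _ hθc horth w (hV w hw).1 (hV w hw).2, map_zero, mul_zero]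
    rw [CharBasic.classInner_sub_left, h1, hγ, CharBasic.classInner_sum_left, sum_eq_zero, sub_zero]
    intro η _
    rw [CharBasic.classInner_smul_left, ← hγ, show Cfsg.classInner (χ η) (β - γ) = 0 from by
      rw [← CharInduce.conj_classInner, horth, map_zero], mul_zero]
  exact sub_eq_zero.1 (CharBasic.classInner_self_eq_zero.1 h0)

/-- Induction of a function supported outside `W₁ ∪ W₂`. -/
theorem indFun_eq_sum [Fintype ↥(W₁ ⊔ W₂)] (hW : Cfsg.IsSelfNormalizingCyclic W₁ W₂)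
    (hχ : Cfsg.IsCyclicTIFamily W₁ W₂ χ) {f : ↥(W₁ ⊔ W₂) → ℂ}
    (hf : ∀ w : ↥(W₁ ⊔ W₂), (w : G) ∈ W₁ ∨ (w : G) ∈ W₂ → f w = 0) :
    Cfsg.indFun (W₁ ⊔ W₂) f = ∑ ω, Cfsg.classInner f (fun w => (ω w : ℂ)) • χ ω :=
  eq_sum_of_pairing hW hχ hf (CharInduce.isClassFunction_indFun _ _) fun F hF =>
    CharInduce.classInner_indFun_left _ _ F hF

theorem card_ne (hW : Cfsg.IsSelfNormalizingCyclic W₁ W₂) (hodd : Odd (Nat.card ↥(W₁ ⊔ W₂))) :
    Nat.card W₁ ≠ Nat.card W₂ := by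
  intro e
  haveI := hW.2.2.2.2.1
  obtain ⟨g, hg⟩ := IsCyclic.exists_ofOrder_eq_natCard (α := ↥(W₁ ⊔ W₂))
  obtain ⟨a, b, ha, hb, hab⟩ := exists_mul_decomp hW g
  have ha1 : a ^ Nat.card W₁ = 1 := Subtype.ext (by
    have := congrArg Subtype.val (pow_card_eq_one' (x := (⟨(a : G), ha⟩ : W₁)))
    simp only [SubmonoidClass.coe_pow, OneMemClass.coe_one] at this ⊢
    exact this)
  have hb1 : b ^ Nat.card W₂ = 1 := Subtype.ext (by
    have := congrArg Subtype.val (pow_card_eq_one' (x := (⟨(b : G), hb⟩ : W₂)))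
    simp only [SubmonoidClass.coe_pow, OneMemClass.coe_one] at this ⊢
    exact this)
  have hc : Commute a b := Subtype.ext (hW.2.2.2.1 _ ha _ hb)
  have h1 : g ^ Nat.card W₁ = 1 := by
    rw [hab, hc.mul_pow, ha1, e, hb1, one_mul]
  have h2 := Nat.le_of_dvd Nat.card_pos (orderOf_dvd_of_pow_eq_one h1)
  rw [hg, card_sup hW] at h2
  have h3 := (card_facts hW hodd).2.2.2.1
  have h4 : 0 < Nat.card W₁ := Nat.card_pos
  nlinarith

open scoped Classical in
/-- Few nonzero coefficients of a class function vanishing outside `W₁ ∪ W₂`: none, one column or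
one row (no ordering of `|W₁|` and `|W₂|` assumed). -/
theorem trichotomy (hW : Cfsg.IsSelfNormalizingCyclic W₁ W₂) (hodd : Odd (Nat.card ↥(W₁ ⊔ W₂)))
    (hχ : Cfsg.IsCyclicTIFamily W₁ W₂ χ) {θ : G → ℂ} (hθ : Cfsg.IsClassFunction G θ)
    (hθV : ∀ w : ↥(W₁ ⊔ W₂), (w : G) ∉ W₁ → (w : G) ∉ W₂ → θ w = 0)
    (h1 : Nat.card {ω // Cfsg.classInner θ (χ ω) ≠ 0} < 2 * Nat.card W₁)
    (h2 : Nat.card {ω // Cfsg.classInner θ (χ ω) ≠ 0} < 2 * Nat.card W₂) :
    (∀ ω, Cfsg.classInner θ (χ ω) = 0) ∨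
      (∃ ψ₀, TrivL ψ₀ ∧ ∃ c : ℂ, c ≠ 0 ∧ ∀ φ ψ, TrivR φ → TrivL ψ →
        Cfsg.classInner θ (χ (φ * ψ)) = if ψ = ψ₀ then c else 0) ∨
      ∃ φ₀, TrivR φ₀ ∧ ∃ c : ℂ, c ≠ 0 ∧ ∀ φ ψ, TrivR φ → TrivL ψ →
        Cfsg.classInner θ (χ (φ * ψ)) = if φ = φ₀ then c else 0 := by
  let P := {φ : ↥(W₁ ⊔ W₂) →* ℂˣ // TrivR φ}
  let Q := {ψ : ↥(W₁ ⊔ W₂) →* ℂˣ // TrivL ψ}
  letI : DecidableEq P := Classical.decEq _
  letI : DecidableEq Q := Classical.decEq _
  let r : P → ℂ := fun φ => Cfsg.classInner θ (χ φ.1) - Cfsg.classInner θ (χ 1)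
  let c : Q → ℂ := fun ψ => Cfsg.classInner θ (χ ψ.1)
  obtain ⟨hP, hQ⟩ := card_trivR_trivL hW
  obtain ⟨o1, o2, g1, g2, -⟩ := card_facts hW hodd
  have hA : ∀ (φ : P) (ψ : Q), Cfsg.classInner θ (χ (φ.1 * ψ.1)) = r φ + c ψ := by
    intro φ ψ
    rw [H43.family_relation hW hχ θ hθ hθV φ.2 ψ.2]; ring
  have hnum : Nat.card {p : P × Q // r p.1 + c p.2 ≠ 0} ≤
      Nat.card {ω // Cfsg.classInner θ (χ ω) ≠ 0} := by
    refine Nat.card_le_card_of_injective (fun p => (⟨p.1.1.1 * p.1.2.1, by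
      rw [hA]; exact p.2⟩ : {ω // Cfsg.classInner θ (χ ω) ≠ 0})) fun a b e => ?_
    obtain ⟨e1, e2⟩ := factor_unique hW a.1.1.2 b.1.1.2 a.1.2.2 b.1.2.2 (congrArg Subtype.val e)
    exact Subtype.ext (Prod.ext (Subtype.ext e1) (Subtype.ext e2))
  have hswap : Nat.card {p : Q × P // c p.1 + r p.2 ≠ 0} =
      Nat.card {p : P × Q // r p.1 + c p.2 ≠ 0} :=
    Nat.card_congr ((Equiv.prodComm Q P).subtypeEquiv fun p => by simp [add_comm])
  have hfin : ((∀ i j, r i + c j = 0) ∨ (∃ j₀ a, ∀ i j, r i + c j = if j = j₀ then a else 0) ∨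
      ∃ i₀ a, ∀ i j, r i + c j = if i = i₀ then a else 0) := by
    rcases lt_or_gt_of_ne (card_ne hW hodd) with hlt | hlt
    · refine S1507.rc_cases r c ?_ ?_ ?_
      · rw [hP]; exact g1
      · rw [hP, hQ]
        have := Nat.odd_iff.1 o1
        have := Nat.odd_iff.1 o2
        omega
      · rw [hP]; omega
    · rcases S1507.rc_cases c r (by rw [hQ]; exact g2)
        (by
          rw [hP, hQ]
          have := Nat.odd_iff.1 o1
          have := Nat.odd_iff.1 o2
          omega)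
        (by rw [hQ, hswap]; omega) with e | ⟨j, a, e⟩ | ⟨i, a, e⟩
      · exact Or.inl fun i j => by rw [add_comm]; exact e j i
      · exact Or.inr (Or.inr ⟨j, a, fun i k => by rw [add_comm]; exact e k i⟩)
      · exact Or.inr (Or.inl ⟨i, a, fun k j => by rw [add_comm]; exact e j k⟩)
  rcases hfin with e | ⟨q, a, e⟩ | ⟨p, a, e⟩
  · left
    intro ω
    obtain ⟨φ, ψ, hφ, hψ, rfl⟩ := exists_factor hW ω
    exact (hA ⟨φ, hφ⟩ ⟨ψ, hψ⟩).trans (e _ _)
  · by_cases ha : a = 0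
    · left
      intro ω
      obtain ⟨φ, ψ, hφ, hψ, rfl⟩ := exists_factor hW ω
      rw [hA ⟨φ, hφ⟩ ⟨ψ, hψ⟩, e, ha, ite_self]
    · refine Or.inr (Or.inl ⟨q.1, q.2, a, ha, fun φ ψ hφ hψ => ?_⟩)
      rw [hA ⟨φ, hφ⟩ ⟨ψ, hψ⟩, e]
      exact if_congr Subtype.ext_iff rfl rfl
  · by_cases ha : a = 0
    · left
      intro ω
      obtain ⟨φ, ψ, hφ, hψ, rfl⟩ := exists_factor hW ω
      rw [hA ⟨φ, hφ⟩ ⟨ψ, hψ⟩, e, ha, ite_self]
    · refine Or.inr (Or.inr ⟨p.1, p.2, a, ha, fun φ ψ hφ hψ => ?_⟩)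
      rw [hA ⟨φ, hφ⟩ ⟨ψ, hψ⟩, e]
      exact if_congr Subtype.ext_iff rfl rfl

open scoped Classical in
/-- Few nonzero coefficients: all of them equal, at least three of them unless none. -/
theorem few_const (hW : Cfsg.IsSelfNormalizingCyclic W₁ W₂) (hodd : Odd (Nat.card ↥(W₁ ⊔ W₂)))
    (hχ : Cfsg.IsCyclicTIFamily W₁ W₂ χ) {θ : G → ℂ} (hθ : Cfsg.IsClassFunction G θ)
    (hθV : ∀ w : ↥(W₁ ⊔ W₂), (w : G) ∉ W₁ → (w : G) ∉ W₂ → θ w = 0)
    (h6 : Nat.card {ω // Cfsg.classInner θ (χ ω) ≠ 0} < 6) :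
    ∃ c : ℂ, (∀ ω, Cfsg.classInner θ (χ ω) = 0 ∨ Cfsg.classInner θ (χ ω) = c) ∧
      (c = 0 ∨ 3 ≤ (univ.filter fun ω => Cfsg.classInner θ (χ ω) = c).card) := by
  obtain ⟨-, -, g1, g2, -⟩ := card_facts hW hodd
  obtain ⟨hP, hQ⟩ := card_trivR_trivL hW
  rcases trichotomy hW hodd hχ hθ hθV (by omega) (by omega) with
    e | ⟨ψ₀, hψ₀, c, hc, e⟩ | ⟨φ₀, hφ₀, c, hc, e⟩
  · exact ⟨0, fun ω => Or.inl (e ω), Or.inl rfl⟩
  · refine ⟨c, fun ω => ?_, Or.inr ?_⟩
    · obtain ⟨φ, ψ, hφ, hψ, rfl⟩ := exists_factor hW ω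
      rw [e φ ψ hφ hψ]
      split_ifs <;> simp
    · refine g1.trans (hP.symm.le.trans ?_)
      rw [← Fintype.card_coe, ← Nat.card_eq_fintype_card]
      refine Nat.card_le_card_of_injective (fun φ => ⟨φ.1 * ψ₀, mem_filter.2
        ⟨mem_univ _, by rw [e φ.1 ψ₀ φ.2 hψ₀, if_pos rfl]⟩⟩) fun a b h => ?_
      exact Subtype.ext (mul_right_cancel (congrArg Subtype.val h))
  · refine ⟨c, fun ω => ?_, Or.inr ?_⟩
    · obtain ⟨φ, ψ, hφ, hψ, rfl⟩ := exists_factor hW ω
      rw [e φ ψ hφ hψ]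
      split_ifs <;> simp
    · refine g2.trans (hQ.symm.le.trans ?_)
      rw [← Fintype.card_coe, ← Nat.card_eq_fintype_card]
      refine Nat.card_le_card_of_injective (fun ψ => ⟨φ₀ * ψ.1, mem_filter.2
        ⟨mem_univ _, by rw [e φ₀ ψ.1 hφ₀ ψ.2, if_pos rfl]⟩⟩) fun a b h => ?_
      exact Subtype.ext (mul_left_cancel (congrArg Subtype.val h))

theorem classInner_self_re_nonneg (φ : G → ℂ) : 0 ≤ (Cfsg.classInner φ φ).re := by
  rw [CharBasic.classInner_self_eq, Complex.ofReal_re]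
  positivity

open scoped Classical in
/-- Bessel's inequality for a virtual character along the family. -/
theorem exists_coeff (hχ : Cfsg.IsCyclicTIFamily W₁ W₂ χ) {β : G → ℂ}
    (hβ : Cfsg.IsGeneralizedCharacter G β) {N : ℤ} (hN : Cfsg.classInner β β = N) :
    ∃ b : (↥(W₁ ⊔ W₂) →* ℂˣ) → ℤ, (∀ ω, Cfsg.classInner β (χ ω) = b ω) ∧
      ∑ ω, b ω ^ 2 ≤ N ∧ (∑ ω, b ω ^ 2 = N → β = ∑ ω, (b ω : ℂ) • χ ω) := by
  choose b hb using fun ω => gen_inner_int hβ (Signed.gen (hχ.irr_or_neg ω))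
  set γ : G → ℂ := β - ∑ ω, (b ω : ℂ) • χ ω with hγ
  have hnorm : Cfsg.classInner γ γ = ((N - ∑ ω, b ω ^ 2 : ℤ) : ℂ) := by
    have h1 : ∀ η, Cfsg.classInner γ (χ η) = 0 := fun η => by
      rw [hγ, CharBasic.classInner_sub_left, hb, classInner_combination hχ, sub_self]
    rw [hγ, CharBasic.classInner_sub_right, ← hγ, CharBasic.classInner_sum_right]
    simp only [CharBasic.classInner_smul_right, h1, mul_zero, sum_const_zero, sub_zero]
    rw [hγ, CharBasic.classInner_sub_left, CharBasic.classInner_sum_left, hN]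
    simp only [CharBasic.classInner_smul_left]
    push_cast
    congr 1
    refine sum_congr rfl fun ω _ => ?_
    rw [← CharInduce.conj_classInner, hb, map_intCast, sq]
  refine ⟨b, hb, ?_, fun e => ?_⟩
  · have := classInner_self_re_nonneg γ
    rw [hnorm, Complex.intCast_re] at this
    have : (0 : ℤ) ≤ N - ∑ ω, b ω ^ 2 := by exact_mod_cast this
    omega
  · rw [e, sub_self, Int.cast_zero, CharBasic.classInner_self_eq_zero, hγ, sub_eq_zero] at hnorm
    exact hnorm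

open scoped Classical in
/-- A norm two virtual character agreeing outside `W₁ ∪ W₂` with `s (ω − ω')` is
`s (χ ω − χ ω')`. -/
theorem eq_sub_of_agree (hW : Cfsg.IsSelfNormalizingCyclic W₁ W₂)
    (hodd : Odd (Nat.card ↥(W₁ ⊔ W₂))) (hχ : Cfsg.IsCyclicTIFamily W₁ W₂ χ) {β : G → ℂ}
    (hβ : Cfsg.IsGeneralizedCharacter G β) (hN : Cfsg.classInner β β = 2) {s : ℂ}
    (hs : s = 1 ∨ s = -1) {ω ω' : ↥(W₁ ⊔ W₂) →* ℂˣ} (hne : ω ≠ ω')
    (hV : ∀ w : ↥(W₁ ⊔ W₂), (w : G) ∉ W₁ → (w : G) ∉ W₂ →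
      β w = s * ((ω w : ℂ) - (ω' w : ℂ))) :
    β = s • (χ ω - χ ω') := by
  obtain ⟨t, ht, rfl⟩ : ∃ t : ℤ, (t = 1 ∨ t = -1) ∧ s = (t : ℂ) := by
    rcases hs with e | e
    · exact ⟨1, Or.inl rfl, by simp [e]⟩
    · exact ⟨-1, Or.inr rfl, by simp [e]⟩
  obtain ⟨b, hb, hle, heq⟩ := exists_coeff hχ hβ (N := 2) (by rw [hN]; norm_num)
  let T := fun η => (if η = ω then (1 : ℤ) else 0) - (if η = ω' then 1 else 0)
  set θ : G → ℂ := β - (t : ℂ) • (χ ω - χ ω') with hθdef
  have hθ : Cfsg.IsClassFunction G θ := fun x y => by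
    show β (y * x * y⁻¹) - (t : ℂ) * (χ ω (y * x * y⁻¹) - χ ω' (y * x * y⁻¹)) = _
    rw [gen_isClassFunction hβ x y, family_isClassFunction hχ ω x y,
      family_isClassFunction hχ ω' x y]
    rfl
  have hθV : ∀ w : ↥(W₁ ⊔ W₂), (w : G) ∉ W₁ → (w : G) ∉ W₂ → θ w = 0 := fun w h1 h2 => by
    show β w - (t : ℂ) * (χ ω w - χ ω' w) = 0
    rw [hV w h1 h2, hχ.eq_on ω w h1 h2, hχ.eq_on ω' w h1 h2, sub_self]
  have ha : ∀ η, Cfsg.classInner θ (χ η) = ((b η - t * T η : ℤ) : ℂ) := by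
    intro η
    rw [hθdef, CharBasic.classInner_sub_left, CharBasic.classInner_smul_left,
      CharBasic.classInner_sub_left, hb, hχ.orthonormal, hχ.orthonormal]
    show _ = ((b η - t * ((if η = ω then 1 else 0) - (if η = ω' then 1 else 0)) : ℤ) : ℂ)
    push_cast
    simp only [eq_comm]
    congr
  set S := univ.filter fun η => b η ≠ 0 with hS
  have hScard : S.card ≤ 2 := by
    have h1 : (S.card : ℤ) ≤ ∑ η, b η ^ 2 := by
      rw [card_eq_sum_ones, Nat.cast_sum]
      refine le_trans (sum_le_sum fun η hη => ?_) (sum_le_sum_of_subset_of_nonneg (subset_univ S)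
        fun η _ _ => sq_nonneg (b η))
      have := (mem_filter.1 hη).2
      push_cast
      exact Int.add_one_le_iff.2 (lt_of_le_of_ne (sq_nonneg _) (Ne.symm (pow_ne_zero 2 this)))
    omega
  have h6 : Nat.card {η // Cfsg.classInner θ (χ η) ≠ 0} < 6 := by
    rw [Nat.card_eq_fintype_card, Fintype.card_subtype]
    refine lt_of_le_of_lt (card_le_card (t := S ∪ {ω, ω'}) fun η hη => ?_) ?_
    · by_contra hn
      simp only [mem_union, mem_insert, mem_singleton, not_or, hS, mem_filter, mem_univ, true_and,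
        not_not] at hn
      exact (mem_filter.1 hη).2 (by rw [ha]; simp [T, hn.1, hn.2.1, hn.2.2])
    · have h1 := card_union_le S ({ω, ω'} : Finset _)
      have h2 : ({ω, ω'} : Finset (↥(W₁ ⊔ W₂) →* ℂˣ)).card ≤ 2 := card_le_two
      omega
  obtain ⟨c, hcase, hc⟩ := few_const hW hodd hχ hθ hθV h6
  have hzero : ∀ η, b η = t * T η := by
    rcases hc with rfl | hL
    · intro η
      have := (hcase η).elim id id
      rw [ha, Int.cast_eq_zero] at this
      omega
    · by_contra hnz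
      push Not at hnz
      obtain ⟨η₀, hη₀⟩ := hnz
      have hk : c = ((b η₀ - t * T η₀ : ℤ) : ℂ) := by
        rcases hcase η₀ with e | e
        · rw [ha, Int.cast_eq_zero] at e
          omega
        · rw [← e, ha]
      set k := b η₀ - t * T η₀ with hkdef
      have hk0 : k ≠ 0 := by omega
      set M := univ.filter fun η => Cfsg.classInner θ (χ η) = c with hM
      have hmem : ∀ η, η ∈ M ↔ b η - t * T η = k := fun η => by
        rw [hM, mem_filter, ha, hk, Int.cast_inj, and_iff_right (mem_univ η)]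
      have hout : ∀ η, η ∉ M → b η = t * T η := fun η hη => by
        rcases hcase η with e | e
        · rw [ha, Int.cast_eq_zero] at e
          omega
        · exact absurd (show η ∈ M from hM ▸ mem_filter.2 ⟨mem_univ η, e⟩) hη
      have hin : ∀ η ∈ M, η ≠ ω → η ≠ ω' → b η = k := fun η hη h1 h2 => by
        have := (hmem η).1 hη
        simpa [T, h1, h2] using this
      have hωm : ω ∈ M := by
        by_contra hn
        have hbω : b ω ≠ 0 := by
          rw [hout ω hn]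
          simp only [T, if_true, if_neg hne, sub_zero, mul_one]
          omega
        have hsub : insert ω (M.erase ω') ⊆ S := by
          intro η hη
          rw [hS, mem_filter]
          refine ⟨mem_univ _, ?_⟩
          rcases mem_insert.1 hη with rfl | h'
          · exact hbω
          · rw [hin η (mem_erase.1 h').2 (fun e => hn (e ▸ (mem_erase.1 h').2)) (mem_erase.1 h').1]
            exact hk0
        have h1 := card_le_card hsub
        rw [card_insert_of_notMem fun h' => hn (mem_erase.1 h').2] at h1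
        have h2 := pred_card_le_card_erase (s := M) (a := ω')
        omega
      have hω'm : ω' ∈ M := by
        by_contra hn
        have hbω : b ω' ≠ 0 := by
          rw [hout ω' hn]
          simp only [T, if_true, if_neg (Ne.symm hne), zero_sub]
          omega
        have hsub : insert ω' (M.erase ω) ⊆ S := by
          intro η hη
          rw [hS, mem_filter]
          refine ⟨mem_univ _, ?_⟩
          rcases mem_insert.1 hη with rfl | h'
          · exact hbω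
          · rw [hin η (mem_erase.1 h').2 (mem_erase.1 h').1 (fun e => hn (e ▸ (mem_erase.1 h').2))]
            exact hk0
        have h1 := card_le_card hsub
        rw [card_insert_of_notMem fun h' => hn (mem_erase.1 h').2] at h1
        have h2 := pred_card_le_card_erase (s := M) (a := ω)
        omega
      obtain ⟨η, hη, hη1, hη2⟩ : ∃ η ∈ M, η ≠ ω ∧ η ≠ ω' := by
        by_contra hn
        push Not at hn
        have : M ⊆ {ω, ω'} := fun η hη => by
          rw [mem_insert, mem_singleton]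
          exact (em (η = ω)).imp_right (hn η hη)
        have h1 := card_le_card this
        have h2 : ({ω, ω'} : Finset (↥(W₁ ⊔ W₂) →* ℂˣ)).card ≤ 2 := card_le_two
        omega
      have e1 : b ω = k + t := by
        have := (hmem ω).1 hωm
        simp [T, hne] at this
        omega
      have e2 : b ω' = k - t := by
        have := (hmem ω').1 hω'm
        simp [T, Ne.symm hne] at this
        omega
      have e3 := hin η hη hη1 hη2
      have h5 : b ω ^ 2 + b ω' ^ 2 + b η ^ 2 ≤ 2 := by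
        refine le_trans (le_of_eq ?_) ((sum_le_sum_of_subset_of_nonneg
          (subset_univ ({ω, ω', η} : Finset _)) fun x _ _ => sq_nonneg (b x)).trans hle)
        rw [sum_insert (by simp [hne, Ne.symm hη1]), sum_insert (by simp [Ne.symm hη2]), sum_singleton]
        ring
      rw [e1, e2, e3] at h5
      have : 1 ≤ k ^ 2 := Int.add_one_le_iff.2 (lt_of_le_of_ne (sq_nonneg _)
        (Ne.symm (pow_ne_zero 2 hk0)))
      rcases ht with rfl | rfl <;> nlinarith
  have hsum : ∑ η, b η ^ 2 = 2 := by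
    rw [sum_congr rfl fun η _ => by rw [hzero η],
      ← sum_subset (subset_univ ({ω, ω'} : Finset _)) (fun η _ hη => by
        simp only [mem_insert, mem_singleton, not_or] at hη
        simp [T, hη.1, hη.2]), sum_pair hne]
    rcases ht with rfl | rfl <;> simp [T, hne, Ne.symm hne]
  rw [heq hsum]
  simp only [hzero, T]
  push_cast
  simp only [apply_ite (Int.cast : ℤ → ℂ), Int.cast_one, Int.cast_zero, mul_sub, sub_smul, mul_ite,
    mul_one, mul_zero, ite_smul, zero_smul, sum_sub_distrib, sum_ite_eq', mem_univ, if_true,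
    smul_sub]

end Cfsg.Agent.OddOrder.PF3
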