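import Cfsg.Agent.OddOrder.PF3.Grid
import Cfsg.Agent.H43.CyclicTI
import Cfsg.Agent.S1505
import Cfsg.Agent.CharInduce.Induce

/-!
# Existence of a cyclic TI family (Peterfalvi 3.2)
-/

set_option autoImplicit false

namespace Cfsg.Agent.OddOrder.PF3

open scoped ComplexConjugate
open Cfsg.Agent H43 Finset

universe u

/-- Transport of a linear character group along cardinality. -/
theorem card_linear (W : Type u) [Group W] [Finite W] (hcyc : IsCyclic W) :
    Nat.card (W →* ℂˣ) = Nat.card W := by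
  let _ : CommGroup W := hcyc.commGroup
  obtain ⟨e⟩ := CommGroup.monoidHom_mulEquiv_of_hasEnoughRootsOfUnity W ℂ
  exact Nat.card_congr e.toEquiv

section Cards

variable {G : Type u} [Group G] [Finite G] {W₁ W₂ : Subgroup G}

theorem card_sup (hW : Cfsg.IsSelfNormalizingCyclic W₁ W₂) :
    Nat.card ↥(W₁ ⊔ W₂) = Nat.card W₁ * Nat.card W₂ := by
  rw [← Nat.card_prod]
  refine (Nat.card_congr (Equiv.ofBijective
    (fun p : W₁ × W₂ => (⟨(p.1 : G) * p.2, mul_mem (Subgroup.mem_sup_left p.1.2)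
      (Subgroup.mem_sup_right p.2.2)⟩ : ↥(W₁ ⊔ W₂))) ⟨?_, fun w => ?_⟩)).symm
  · intro p q h
    exact Subgroup.mul_injective_of_disjoint (disjoint_iff.2 hW.2.2.1) (congrArg Subtype.val h)
  · obtain ⟨a, b, ha, hb, rfl⟩ := exists_mul_decomp hW w
    exact ⟨(⟨a, ha⟩, ⟨b, hb⟩), rfl⟩

/-- There are `|W₁|` linear characters trivial on `W₂` and `|W₂|` trivial on `W₁`. -/
theorem card_trivR_trivL (hW : Cfsg.IsSelfNormalizingCyclic W₁ W₂) :
    Nat.card {φ : ↥(W₁ ⊔ W₂) →* ℂˣ // TrivR φ} = Nat.card W₁ ∧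
      Nat.card {ψ : ↥(W₁ ⊔ W₂) →* ℂˣ // TrivL ψ} = Nat.card W₂ := by
  haveI := hW.2.2.2.2.1
  haveI : IsCyclic W₁ := isCyclic_of_injective (Subgroup.inclusion (le_sup_left : W₁ ≤ W₁ ⊔ W₂))
    (Subgroup.inclusion_injective _)
  haveI : IsCyclic W₂ := isCyclic_of_injective (Subgroup.inclusion (le_sup_right : W₂ ≤ W₁ ⊔ W₂))
    (Subgroup.inclusion_injective _)
  have h1 : Nat.card {φ : ↥(W₁ ⊔ W₂) →* ℂˣ // TrivR φ} ≤ Nat.card W₁ := by
    rw [← card_linear W₁ inferInstance]
    refine Nat.card_le_card_of_injective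
      (fun φ => φ.1.comp (Subgroup.inclusion (le_sup_left : W₁ ≤ W₁ ⊔ W₂))) fun a b e => ?_
    refine Subtype.ext (linear_ext hW (fun w hw => ?_) fun w hw => by rw [a.2 w hw, b.2 w hw])
    exact DFunLike.congr_fun e (⟨w, hw⟩ : W₁)
  have h2 : Nat.card {ψ : ↥(W₁ ⊔ W₂) →* ℂˣ // TrivL ψ} ≤ Nat.card W₂ := by
    rw [← card_linear W₂ inferInstance]
    refine Nat.card_le_card_of_injective
      (fun φ => φ.1.comp (Subgroup.inclusion (le_sup_right : W₂ ≤ W₁ ⊔ W₂))) fun a b e => ?_
    refine Subtype.ext (linear_ext hW (fun w hw => by rw [a.2 w hw, b.2 w hw]) fun w hw => ?_)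
    exact DFunLike.congr_fun e (⟨w, hw⟩ : W₂)
  have h3 : Nat.card {φ : ↥(W₁ ⊔ W₂) →* ℂˣ // TrivR φ} *
      Nat.card {ψ : ↥(W₁ ⊔ W₂) →* ℂˣ // TrivL ψ} = Nat.card W₁ * Nat.card W₂ := by
    rw [← card_sup hW, ← card_linear ↥(W₁ ⊔ W₂) inferInstance, ← Nat.card_prod]
    refine Nat.card_congr (Equiv.ofBijective (fun p => p.1.1 * p.2.1) ⟨?_, fun ω => ?_⟩)
    · intro p q e
      obtain ⟨e1, e2⟩ := factor_unique hW p.1.2 q.1.2 p.2.2 q.2.2 e
      exact Prod.ext (Subtype.ext e1) (Subtype.ext e2)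
    · obtain ⟨φ, ψ, hφ, hψ, rfl⟩ := exists_factor hW ω
      exact ⟨(⟨φ, hφ⟩, ⟨ψ, hψ⟩), rfl⟩
  have p1 : 0 < Nat.card W₁ := Nat.card_pos
  have p2 : 0 < Nat.card W₂ := Nat.card_pos
  constructor <;> nlinarith

/-- The two orders are odd, not one, and one of them is at least five. -/
theorem card_facts (hW : Cfsg.IsSelfNormalizingCyclic W₁ W₂)
    (hodd : Odd (Nat.card ↥(W₁ ⊔ W₂))) :
    Odd (Nat.card W₁) ∧ Odd (Nat.card W₂) ∧ 3 ≤ Nat.card W₁ ∧ 3 ≤ Nat.card W₂ ∧
      (5 ≤ Nat.card W₁ ∨ 5 ≤ Nat.card W₂) := by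
  rw [card_sup hW, Nat.odd_mul] at hodd
  obtain ⟨o1, o2⟩ := hodd
  have n1 : Nat.card W₁ ≠ 1 := fun h => hW.1 (Subgroup.card_eq_one.1 h)
  have n2 : Nat.card W₂ ≠ 1 := fun h => hW.2.1 (Subgroup.card_eq_one.1 h)
  obtain ⟨a, ha⟩ := o1
  obtain ⟨b, hb⟩ := o2
  refine ⟨⟨a, ha⟩, ⟨b, hb⟩, by omega, by omega, ?_⟩
  by_contra hc
  push Not at hc
  have e1 : Nat.card W₁ = 3 := by omega
  have e2 : Nat.card W₂ = 3 := by omega
  haveI := hW.2.2.2.2.1
  obtain ⟨g, hg⟩ := IsCyclic.exists_ofOrder_eq_natCard (α := ↥(W₁ ⊔ W₂))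
  have h9 : orderOf g ∣ 3 := by
    obtain ⟨x, y, hx, hy, rfl⟩ := exists_mul_decomp hW g
    refine orderOf_dvd_of_pow_eq_one (Subtype.ext ?_)
    have hc' : Commute (x : G) (y : G) := hW.2.2.2.1 _ hx _ hy
    rw [Subgroup.coe_pow, Subgroup.coe_mul, hc'.mul_pow,
      show (x : G) ^ 3 = 1 from by
        have := congrArg Subtype.val (e1 ▸ pow_card_eq_one' (x := (⟨x, hx⟩ : W₁)))
        simpa using this,
      show (y : G) ^ 3 = 1 from by
        have := congrArg Subtype.val (e2 ▸ pow_card_eq_one' (x := (⟨y, hy⟩ : W₂)))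
        simpa using this, one_mul]
    rfl
  rw [hg, card_sup hW, e1, e2] at h9
  norm_num at h9

end Cards

variable {G : Type u} [Group G] [Fintype G] {W₁ W₂ : Subgroup G}

open scoped Classical in
/-- Existence of a cyclic TI family. -/
theorem exists_family (hW : Cfsg.IsSelfNormalizingCyclic W₁ W₂)
    (hodd : Odd (Nat.card ↥(W₁ ⊔ W₂))) :
    ∃ χ : (↥(W₁ ⊔ W₂) →* ℂˣ) → (G → ℂ), Cfsg.IsCyclicTIFamily W₁ W₂ χ := by
  haveI : Fintype ↥(W₁ ⊔ W₂) := Fintype.ofFinite _
  let I := {φ : ↥(W₁ ⊔ W₂) →* ℂˣ // TrivR φ ∧ φ ≠ 1}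
  let J := {ψ : ↥(W₁ ⊔ W₂) →* ℂˣ // TrivL ψ ∧ ψ ≠ 1}
  let lin : (↥(W₁ ⊔ W₂) →* ℂˣ) → (↥(W₁ ⊔ W₂) → ℂ) := fun ω w => (ω w : ℂ)
  let α : I → J → ↥(W₁ ⊔ W₂) → ℂ := fun i j => cycAlpha i.1 j.1
  let β : I → J → G → ℂ := fun i j => Cfsg.indFun (W₁ ⊔ W₂) (α i j)
  let P : Cfsg.IrrCharacter G := ⟨fun _ => 1, CharBasic.isIrrCharacter_one⟩
  -- integer coordinates
  have hαgen : ∀ i j, Cfsg.IsGeneralizedCharacter ↥(W₁ ⊔ W₂) (α i j) := by
    intro i j
    refine ⟨lin 1 + lin (i.1 * j.1), lin i.1 + lin j.1,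
      CharBasic.IsChar.add (CharInduce.isCharacter_hom _) (CharInduce.isCharacter_hom _),
      CharBasic.IsChar.add (CharInduce.isCharacter_hom _) (CharInduce.isCharacter_hom _), ?_⟩
    funext w
    simp [α, cycAlpha, lin]
    ring
  have hβgen : ∀ i j, Cfsg.IsGeneralizedCharacter G (β i j) := fun i j =>
    CharInduce.IsGen.ind _ (hαgen i j)
  choose n hn using fun i j (e : Cfsg.IrrCharacter G) =>
    CharInduce.IsGen.exists_int_coeff (hβgen i j) (CharBasic.IsIrr.isCharacter e.2)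
  have hgram : ∀ i j i' j', Cfsg.classInner (β i j) (fun _ => 1) = 1 ∧
      Cfsg.classInner (β i j) (β i' j') = 1 + (if i = i' then 1 else 0) + (if j = j' then 1 else 0) +
        (if i = i' then 1 else 0) * (if j = j' then 1 else 0) := by
    intro i j i' j'
    have h := S1505.result W₁ W₂ hW i.1 i'.1 j.1 j'.1 i.2.2 i'.2.2 j.2.2 j'.2.2
      (fun w hw => ⟨i.2.1 w hw, i'.2.1 w hw⟩) (fun w hw => ⟨j.2.1 w hw, j'.2.1 w hw⟩)
    refine ⟨h.1, ?_⟩
    simp only [← Subtype.ext_iff] at h
    convert h.2 using 1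
    rfl
  have hnP : ∀ i j, n i j P = 1 := by
    intro i j
    have := (hn i j P).symm.trans (hgram i j i j).1
    exact_mod_cast this
  let v : I → J → Cfsg.IrrCharacter G → ℤ := fun i j e => if e = P then 0 else n i j e
  have hexp : ∀ i j, β i j = ∑ e, (n i j e : ℂ) • (e : G → ℂ) := by
    intro i j
    conv_lhs => rw [CharBasic.classFunction_expansion (CharInduce.IsGen.isClassFunction (hβgen i j))]
    simp only [hn]
  have hexp' : ∀ i j, β i j = (fun _ => 1) + ∑ e, (v i j e : ℂ) • (e : G → ℂ) := by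
    intro i j
    rw [hexp, ← add_sum_erase _ _ (mem_univ P), ← add_sum_erase _ _ (mem_univ P)]
    simp only [v, if_true, Int.cast_zero, zero_smul, zero_add, hnP, Int.cast_one, one_smul]
    congr 1
    exact sum_congr rfl fun e he => by rw [if_neg (mem_erase.1 he).1]
  have hdot : ∀ i j i' j', ∑ e, v i j e * v i' j' e = (if i = i' then 1 else 0) +
      (if j = j' then 1 else 0) + (if i = i' then 1 else 0) * (if j = j' then 1 else 0) := by
    intro i j i' j'
    have h := (hgram i j i' j').2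
    rw [CharBasic.classInner_eq_sum (CharInduce.IsGen.isClassFunction (hβgen i j))] at h
    simp only [hn, map_intCast] at h
    have h' : ∑ e, n i j e * n i' j' e = 1 + ((if i = i' then 1 else 0) +
        (if j = j' then 1 else 0) + (if i = i' then 1 else 0) * (if j = j' then 1 else 0)) := by
      apply Int.cast_injective (α := ℂ)
      push_cast
      rw [h]
      ring
    rw [← add_sum_erase _ _ (mem_univ P), hnP, hnP, one_mul, add_right_inj] at h'
    rw [← add_sum_erase _ _ (mem_univ P), ← h']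
    simp only [v, if_true, mul_zero, zero_add]
    exact sum_congr rfl fun e he => by rw [if_neg (mem_erase.1 he).1, if_neg (mem_erase.1 he).1]
  choose d hdpos hd using fun e : Cfsg.IrrCharacter G => CharBasic.IsIrr.exists_degree e.2
  have hdeg : ∀ i j, ∑ e, v i j e * (d e : ℤ) = -1 := by
    intro i j
    have h := congrFun (hexp' i j) 1
    have h0 : β i j 1 = 0 := by simp [β, α, CharInduce.indFun_one, cycAlpha]
    rw [h0] at h
    simp only [Pi.add_apply, Finset.sum_apply, Pi.smul_apply, smul_eq_mul, hd] at h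
    apply Int.cast_injective (α := ℂ)
    push_cast
    linear_combination -h
  have htri : ∀ i j, Grid.IsTriple (v i j) := by
    intro i j
    have h3 : ∑ e, v i j e * v i j e = 3 := by rw [hdot]; simp
    have hval : ∀ e, v i j e = 0 ∨ v i j e = 1 ∨ v i j e = -1 := by
      intro e
      have h := single_le_sum (f := fun e => v i j e * v i j e)
        (fun x _ => mul_self_nonneg (v i j x)) (mem_univ e)
      simp only [h3] at h
      have hb : -1 ≤ v i j e ∧ v i j e ≤ 1 := ⟨by nlinarith, by nlinarith⟩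
      omega
    refine ⟨hval, ?_⟩
    rw [← h3]
    refine sum_congr rfl fun e => ?_
    intro _
    rcases hval e with h | h | h <;> simp [h]
  have hcommon : ∀ i j i' j', Grid.common (v i j) (v i' j') ≤ 3 ∧
      |Grid.dot (v i j) (v i' j')| ≤ Grid.common (v i j) (v i' j') ∧
      (2 : ℤ) ∣ Grid.common (v i j) (v i' j') - Grid.dot (v i j) (v i' j') := by
    intro i j i' j'
    refine ⟨?_, ?_, ?_⟩
    · rw [← (htri i j).2]
      refine sum_le_sum fun e _ => ?_
      rcases (htri i' j').1 e with h | h | h <;> simp [h]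
    · refine (abs_sum_le_sum_abs _ _).trans (le_of_eq ?_)
      simp [Grid.common, abs_mul]
    · rw [Grid.common, Grid.dot, ← sum_sub_distrib]
      refine dvd_sum fun e _ => ?_
      rcases (htri i j).1 e with h | h | h <;> rcases (htri i' j').1 e with h' | h' | h' <;>
        simp [h, h']
  have hline : ∀ i j i' j', Grid.dot (v i j) (v i' j') = 1 → Grid.Line (v i j) (v i' j') := by
    intro i j i' j' h
    obtain ⟨h1, h2, h3⟩ := hcommon i j i' j'
    rw [h] at h2 h3
    rw [abs_one] at h2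
    refine ⟨?_, h⟩
    by_contra hne
    have hc : Grid.common (v i j) (v i' j') = 3 := by omega
    -- equal supports: the difference has norm four and degree zero
    have hsupp : ∀ e, v i j e = 0 ↔ v i' j' e = 0 := by
      intro e
      have hA := sum_eq_sum_iff_of_le (s := univ)
        (f := fun e => |v i j e| * |v i' j' e|) (g := fun e => |v i j e|) (fun e _ => by
          rcases (htri i' j').1 e with h | h | h <;> simp [h])
      have hB := sum_eq_sum_iff_of_le (s := univ)
        (f := fun e => |v i j e| * |v i' j' e|) (g := fun e => |v i' j' e|) (fun e _ => by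
          rcases (htri i j).1 e with h | h | h <;> simp [h])
      have a := hA.1 (hc.trans (htri i j).2.symm) e (mem_univ e)
      have b := hB.1 (hc.trans (htri i' j').2.symm) e (mem_univ e)
      rcases (htri i j).1 e with h | h | h <;> rcases (htri i' j').1 e with h' | h' | h' <;>
        simp [h, h'] at a b ⊢
    set D : Cfsg.IrrCharacter G → ℤ := fun e => v i j e - v i' j' e with hD
    have hDval : ∀ e, D e = 0 ∨ D e = 2 ∨ D e = -2 := by
      intro e
      rcases (htri i j).1 e with h | h | h <;> rcases (htri i' j').1 e with h' | h' | h' <;>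
        simp [hD, h, h'] <;> have := hsupp e <;> simp [h, h'] at this
    have hD4 : ∑ e, D e * D e = 4 := by
      have : ∀ e, D e * D e = |v i j e| + |v i' j' e| - 2 * (v i j e * v i' j' e) := by
        intro e
        rcases (htri i j).1 e with h | h | h <;> rcases (htri i' j').1 e with h' | h' | h' <;>
          simp [hD, h, h']
      simp only [this, sum_sub_distrib, sum_add_distrib, ← mul_sum]
      have h' : ∑ e, v i j e * v i' j' e = 1 := h
      rw [(htri i j).2, (htri i' j').2, h']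
      norm_num
    obtain ⟨e₀, he₀⟩ : ∃ e, D e ≠ 0 := by
      by_contra hall
      push Not at hall
      simp [hall] at hD4
    have hothers : ∀ e, e ≠ e₀ → D e = 0 := by
      intro e hne'
      have h4 : ∑ x ∈ ({e, e₀} : Finset _), D x * D x ≤ 4 := hD4 ▸
        sum_le_sum_of_subset_of_nonneg (subset_univ _) fun x _ _ => mul_self_nonneg _
      rw [sum_pair hne'] at h4
      rcases hDval e with h | h | h
      · exact h
      all_goals rcases hDval e₀ with h' | h' | h' <;> rw [h, h'] at h4 <;> omega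
    have h0 : ∑ e, D e * (d e : ℤ) = 0 := by
      simp only [hD, sub_mul, sum_sub_distrib, hdeg, sub_self]
    rw [sum_eq_single e₀ (fun e _ h => by rw [hothers e h, zero_mul]) (by simp)] at h0
    have := hdpos e₀
    rcases mul_eq_zero.1 h0 with h | h <;> omega
  have harr : Grid.IsArray v := by
    refine ⟨htri, fun i j k hjk => hline _ _ _ _ ?_, fun i k j hik => hline _ _ _ _ ?_,
      fun i k j l hik hjl => ?_⟩
    · rw [Grid.dot, hdot]; simp [hjk]
    · rw [Grid.dot, hdot]; simp [hik]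
    · have h : Grid.dot (v i j) (v k l) = 0 := by rw [Grid.dot, hdot]; simp [hik, hjl]
      obtain ⟨h1, h2, h3⟩ := hcommon i j k l
      rw [h] at h2 h3
      rw [abs_zero] at h2
      exact ⟨by omega, h⟩
  -- cardinalities
  obtain ⟨o1, o2, g1, g2, g5⟩ := card_facts hW hodd
  obtain ⟨cR, cL⟩ := card_trivR_trivL hW
  have hI : Fintype.card I + 1 = Nat.card W₁ := by
    rw [← cR, Nat.card_eq_fintype_card, ← Fintype.card_option]
    exact Fintype.card_congr
      { toFun := fun o => o.elim ⟨1, trivR_one⟩ fun i => ⟨i.1, i.2.1⟩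
        invFun := fun φ => if h : φ.1 = 1 then none else some ⟨φ.1, φ.2, h⟩
        left_inv := fun o => by cases o with
          | none => simp
          | some i => simp [i.2.2]
        right_inv := fun φ => by by_cases h : φ.1 = 1 <;> simp [h] <;> exact Subtype.ext h.symm }
  have hJ : Fintype.card J + 1 = Nat.card W₂ := by
    rw [← cL, Nat.card_eq_fintype_card, ← Fintype.card_option]
    exact Fintype.card_congr
      { toFun := fun o => o.elim ⟨1, trivL_one⟩ fun i => ⟨i.1, i.2.1⟩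
        invFun := fun φ => if h : φ.1 = 1 then none else some ⟨φ.1, φ.2, h⟩
        left_inv := fun o => by cases o with
          | none => simp
          | some i => simp [i.2.2]
        right_inv := fun φ => by by_cases h : φ.1 = 1 <;> simp [h] <;> exact Subtype.ext h.symm }
  obtain ⟨a1, ha1⟩ := o1
  obtain ⟨a2, ha2⟩ := o2
  obtain ⟨f, hf, s, hs, hfs⟩ := harr.decompose (by omega) (by omega) (by omega)
  -- each member of the array is the sum of its three terms
  have hsum3 : ∀ i j, ∑ e, (v i j e : ℂ) • (e : G → ℂ) =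
      (s (.inl i) : ℂ) • (f (.inl i) : G → ℂ) + (s (.inr (.inl j)) : ℂ) • (f (.inr (.inl j)) : G → ℂ) +
        (s (.inr (.inr (i, j))) : ℂ) • (f (.inr (.inr (i, j))) : G → ℂ) ∧
      v i j (f (.inl i)) ≠ 0 ∧ v i j (f (.inr (.inl j))) ≠ 0 ∧ v i j (f (.inr (.inr (i, j)))) ≠ 0 := by
    intro i j
    set T : Finset (Cfsg.IrrCharacter G) :=
      {f (.inl i), f (.inr (.inl j)), f (.inr (.inr (i, j)))} with hT
    have hTc : T.card = 3 := by
      rw [hT, card_eq_three]
      exact ⟨_, _, _, hf.ne (by simp), hf.ne (by simp), hf.ne (by simp), rfl⟩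
    have hsub : (univ.filter fun e => v i j e ≠ 0) ⊆ T := by
      intro e he
      rcases hfs i j e (mem_filter.1 he).2 with h | h | h <;> simp [hT, h.1]
    have heq := eq_of_subset_of_card_le hsub (by rw [hTc, (htri i j).card_supp])
    have hne : ∀ e ∈ T, v i j e ≠ 0 := fun e he => by rw [← heq] at he; exact (mem_filter.1 he).2
    refine ⟨?_, hne _ (by simp [hT]), hne _ (by simp [hT]), hne _ (by simp [hT])⟩
    rw [← sum_subset (subset_univ T) (fun e _ he => by
      rw [← heq, mem_filter] at he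
      push Not at he
      simp [he (mem_univ e)]), hT, sum_insert (by simp [hf.eq_iff]), sum_insert (by simp [hf.eq_iff]),
      sum_singleton, add_assoc]
    congr 1
    · rcases hfs i j _ (hne (f (.inl i)) (by simp [hT])) with h | h | h
      · rw [h.2]
      · exact absurd (hf h.1) (by simp)
      · exact absurd (hf h.1) (by simp)
    congr 1
    · rcases hfs i j _ (hne (f (.inr (.inl j))) (by simp [hT])) with h | h | h
      · exact absurd (hf h.1) (by simp)
      · rw [h.2]
      · exact absurd (hf h.1) (by simp)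
    · rcases hfs i j _ (hne (f (.inr (.inr (i, j)))) (by simp [hT])) with h | h | h
      · exact absurd (hf h.1) (by simp)
      · exact absurd (hf h.1) (by simp)
      · rw [h.2]
  haveI : Nonempty I := Fintype.card_pos_iff.1 (by omega)
  haveI : Nonempty J := Fintype.card_pos_iff.1 (by omega)
  have hfP : ∀ x, f x ≠ P := by
    have hv : ∀ i j e, v i j e ≠ 0 → e ≠ P := fun i j e h e' => h (if_pos e')
    rintro (i | j | ⟨i, j⟩)
    · exact hv _ _ _ (hsum3 i (Classical.arbitrary J)).2.1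
    · exact hv _ _ _ (hsum3 (Classical.arbitrary I) j).2.2.1
    · exact hv _ _ _ (hsum3 i j).2.2.2
  -- indexing of the linear characters
  let D : Option (I ⊕ J ⊕ (I × J)) → (↥(W₁ ⊔ W₂) →* ℂˣ) := fun o => o.elim 1
    (Sum.elim (fun i => i.1) (Sum.elim (fun j => j.1) fun p => p.1.1 * p.2.1))
  let F : Option (I ⊕ J ⊕ (I × J)) → Cfsg.IrrCharacter G := fun o => o.elim P f
  let S : Option (I ⊕ J ⊕ (I × J)) → ℂ := fun o => o.elim 1
    (Sum.elim (fun i => -(s (.inl i) : ℂ)) (Sum.elim (fun j => -(s (.inr (.inl j)) : ℂ))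
      fun p => (s (.inr (.inr p)) : ℂ)))
  have hS : ∀ o, S o = 1 ∨ S o = -1 := by
    rintro (_ | i | j | p)
    · exact Or.inl rfl
    · rcases hs (.inl i) with h | h <;> simp [S, h]
    · rcases hs (.inr (.inl j)) with h | h <;> simp [S, h]
    · rcases hs (.inr (.inr p)) with h | h <;> simp [S, h]
  have hFinj : Function.Injective F := by
    rintro (_ | x) (_ | y) h
    · rfl
    · exact absurd h.symm (hfP y)
    · exact absurd h (hfP x)
    · exact congrArg some (hf h)
  have hDbij : Function.Bijective D := by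
    have key : ∀ o, ∃ φ ψ, TrivR φ ∧ TrivL ψ ∧ D o = φ * ψ ∧ o =
        (if h : φ = 1 then (if h' : ψ = 1 then none else
            if hL : TrivL ψ then some (.inr (.inl ⟨ψ, hL, h'⟩)) else none)
          else if hR : TrivR φ then
            (if h' : ψ = 1 then some (.inl ⟨φ, hR, h⟩) else
              if hL : TrivL ψ then some (.inr (.inr (⟨φ, hR, h⟩, ⟨ψ, hL, h'⟩))) else none)
          else none) := by
      rintro (_ | i | j | ⟨i, j⟩)
      · exact ⟨1, 1, trivR_one, trivL_one, by ext w; simp [D], by simp⟩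
      · exact ⟨i.1, 1, i.2.1, trivL_one, by ext w; simp [D], by simp [i.2.2, i.2.1]⟩
      · exact ⟨1, j.1, trivR_one, j.2.1, by ext w; simp [D], by simp [j.2.2, j.2.1]⟩
      · exact ⟨i.1, j.1, i.2.1, j.2.1, rfl, by simp [i.2.2, i.2.1, j.2.2, j.2.1]⟩
    refine ⟨fun o o' e => ?_, fun ω => ?_⟩
    · obtain ⟨φ, ψ, h1, h2, h3, h4⟩ := key o
      obtain ⟨φ', ψ', h1', h2', h3', h4'⟩ := key o'
      obtain ⟨e1, e2⟩ := factor_unique hW h1 h1' h2 h2' (h3.symm.trans (e.trans h3'))
      subst e1; subst e2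
      exact h4.trans h4'.symm
    · obtain ⟨φ, ψ, hφ, hψ, rfl⟩ := exists_factor hW ω
      by_cases h : φ = 1 <;> by_cases h' : ψ = 1
      · exact ⟨none, by ext w; simp [D, h, h']⟩
      · exact ⟨some (.inr (.inl ⟨ψ, hψ, h'⟩)), by ext w; simp [D, h]⟩
      · exact ⟨some (.inl ⟨φ, hφ, h⟩), by ext w; simp [D, h']⟩
      · exact ⟨some (.inr (.inr (⟨φ, hφ, h⟩, ⟨ψ, hψ, h'⟩))), by simp [D]⟩
  let E := Equiv.ofBijective D hDbij
  let χ : (↥(W₁ ⊔ W₂) →* ℂˣ) → (G → ℂ) := fun ω => S (E.symm ω) • (F (E.symm ω) : G → ℂ)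
  have hχD : ∀ o, χ (D o) = S o • (F o : G → ℂ) := fun o => by
    simp only [χ, show E.symm (D o) = o from E.symm_apply_apply o]
  have horth : ∀ ω ω', Cfsg.classInner (χ ω) (χ ω') = if ω = ω' then 1 else 0 := by
    intro ω ω'
    simp only [χ, CharBasic.classInner_smul_left, CharBasic.classInner_smul_right,
      CharBasic.classInner_irrCharacter]
    by_cases h : ω = ω'
    · subst h
      rcases hS (E.symm ω) with h | h <;> simp [h]
    · rw [if_neg h, if_neg (fun e => h (E.symm.injective (hFinj e)))]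
      simp
  have hone : χ 1 = fun _ => 1 := by
    rw [show (1 : ↥(W₁ ⊔ W₂) →* ℂˣ) = D none from rfl, hχD]
    simp [S, F, P]
  have hind : ∀ i j, β i j = χ 1 - χ i.1 - χ j.1 + χ (i.1 * j.1) := by
    intro i j
    rw [hone, show i.1 = D (some (.inl i)) from rfl, show j.1 = D (some (.inr (.inl j))) from rfl,
      show D (some (.inl i)) * D (some (.inr (.inl j))) = D (some (.inr (.inr (i, j)))) from rfl,
      hχD, hχD, hχD, hexp' i j, (hsum3 i j).1]
    simp only [S, F, Option.elim_some, Sum.elim_inl, Sum.elim_inr, neg_smul, sub_neg_eq_add]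
    abel
  refine ⟨χ, ⟨fun ω => ?_, fun ω ω' => by convert horth ω ω', hone, fun ω w hw₁ hw₂ => ?_,
    fun φ ψ hφ hψ hR hL => ?_⟩⟩
  · rcases hS (E.symm ω) with h | h
    · exact Or.inl (by simp only [χ, h, one_smul]; exact (F _).2)
    · exact Or.inr (by simp only [χ, h, neg_one_smul, neg_neg]; exact (F _).2)
  · have hcl : Cfsg.IsClassFunction G (χ ω) := fun g x => by
      simp only [χ, Pi.smul_apply, CharBasic.IsIrr.isClassFunction (F (E.symm ω)).2 g x]
    have h := eq_zero_of_orth hW (fun w => χ ω w - (ω w : ℂ)) (fun φ ψ hφ hψ h1 h2 => ?_) w hw₁ hw₂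
    · exact sub_eq_zero.1 h
    · have hl : Cfsg.classInner (lin ω) (cycAlpha φ ψ) =
          (if ω = 1 then 1 else 0) - (if ω = φ then 1 else 0) - (if ω = ψ then 1 else 0) +
            (if ω = φ * ψ then 1 else 0) := by
        rw [show cycAlpha φ ψ = lin 1 - lin φ - lin ψ + lin (φ * ψ) from funext fun w => by
          simp [cycAlpha, lin]]
        simp only [CharBasic.classInner_add_right, CharBasic.classInner_sub_right, lin, linear_orth]
      have hr : Cfsg.classInner (fun w : ↥(W₁ ⊔ W₂) => χ ω w) (cycAlpha φ ψ) =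
          Cfsg.classInner (lin ω) (cycAlpha φ ψ) := by
        rw [← CharInduce.classInner_indFun_right (W₁ ⊔ W₂) (cycAlpha φ ψ) (χ ω) hcl, hl,
          show Cfsg.indFun (W₁ ⊔ W₂) (cycAlpha φ ψ) = β ⟨φ, hφ, h1⟩ ⟨ψ, hψ, h2⟩ from rfl, hind]
        simp only [CharBasic.classInner_add_right, CharBasic.classInner_sub_right, horth]
      rw [show (fun w : ↥(W₁ ⊔ W₂) => χ ω w - (ω w : ℂ)) = (fun w : ↥(W₁ ⊔ W₂) => χ ω w) - lin ω
        from rfl, CharBasic.classInner_sub_left, hr, sub_self]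
  · rw [show (fun w => 1 - (φ w : ℂ) - (ψ w : ℂ) + (φ w : ℂ) * (ψ w : ℂ)) = α ⟨φ, hR, hφ⟩ ⟨ψ, hL, hψ⟩
      from rfl, show Cfsg.indFun (W₁ ⊔ W₂) _ = β ⟨φ, hR, hφ⟩ ⟨ψ, hL, hψ⟩ from rfl, hind, hone]
    rfl

end Cfsg.Agent.OddOrder.PF3
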