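import Mathlib

/-!
# The grid lemma behind Peterfalvi (3.5)

An array of vectors of norm three whose inner products are one along rows and columns and zero
elsewhere has one common term in each row and each column.
-/

set_option autoImplicit false

namespace Cfsg.Agent.OddOrder.PF3.Grid

open Finset

variable {ι : Type*} [Fintype ι]

/-- Number of common terms. -/
def common (u w : ι → ℤ) : ℤ := ∑ e, |u e| * |w e|

/-- Inner product. -/
def dot (u w : ι → ℤ) : ℤ := ∑ e, u e * w e

/-- Three signed basis vectors. -/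
def IsTriple (u : ι → ℤ) : Prop := (∀ e, u e = 0 ∨ u e = 1 ∨ u e = -1) ∧ ∑ e, |u e| = 3

/-- Two entries of one line. -/
def Line (u w : ι → ℤ) : Prop := common u w = 1 ∧ dot u w = 1

/-- Two entries in different rows and columns. -/
def Cross (u w : ι → ℤ) : Prop := (common u w = 0 ∨ common u w = 2) ∧ dot u w = 0

theorem common_comm (u w : ι → ℤ) : common u w = common w u := by
  simp only [common, mul_comm]

theorem dot_comm (u w : ι → ℤ) : dot u w = dot w u := by
  simp only [dot, mul_comm]

theorem Line.symm {u w : ι → ℤ} (h : Line u w) : Line w u :=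
  ⟨common_comm u w ▸ h.1, dot_comm u w ▸ h.2⟩

theorem Cross.symm {u w : ι → ℤ} (h : Cross u w) : Cross w u :=
  ⟨common_comm u w ▸ h.1, dot_comm u w ▸ h.2⟩

theorem IsTriple.abs_eq_one {u : ι → ℤ} (h : IsTriple u) {e : ι} (he : u e ≠ 0) : |u e| = 1 := by
  rcases h.1 e with h1 | h1 | h1
  · exact absurd h1 he
  · simp [h1]
  · simp [h1]

theorem common_eq_card {u w : ι → ℤ} (hu : IsTriple u) (hw : IsTriple w) :
    common u w = ((univ.filter fun e => u e ≠ 0 ∧ w e ≠ 0).card : ℤ) := by
  rw [Finset.card_filter, Nat.cast_sum, common]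
  refine sum_congr rfl fun e _ => ?_
  by_cases h1 : u e = 0
  · simp [h1]
  by_cases h2 : w e = 0
  · simp [h2]
  simp [h1, h2, hu.abs_eq_one h1, hw.abs_eq_one h2]

theorem IsTriple.card_supp [DecidableEq ι] {u : ι → ℤ} (hu : IsTriple u) :
    (univ.filter fun e => u e ≠ 0).card = 3 := by
  have h : (((univ.filter fun e => u e ≠ 0).card : ℕ) : ℤ) = 3 := by
    rw [Finset.card_filter, Nat.cast_sum, ← hu.2]
    refine sum_congr rfl fun e _ => ?_
    by_cases h1 : u e = 0
    · simp [h1]
    · simp [h1, hu.abs_eq_one h1]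
  exact_mod_cast h

/-- Two entries of a line share exactly one term, with the same sign. -/
theorem Line.exists_common {u w : ι → ℤ} (hu : IsTriple u) (hw : IsTriple w) (h : Line u w) :
    ∃ e, u e ≠ 0 ∧ w e = u e ∧ ∀ e', u e' ≠ 0 → w e' ≠ 0 → e' = e := by
  classical
  have h1 := h.1
  rw [common_eq_card hu hw, Nat.cast_eq_one, card_eq_one] at h1
  obtain ⟨e, he⟩ := h1
  have hmem : ∀ e', u e' ≠ 0 ∧ w e' ≠ 0 ↔ e' = e := fun e' => by
    have := Finset.ext_iff.1 he e'
    simpa using this
  obtain ⟨hue, hwe⟩ := (hmem e).2 rfl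
  refine ⟨e, hue, ?_, fun e' a b => (hmem e').1 ⟨a, b⟩⟩
  have h2 := h.2
  rw [dot, sum_eq_single e (fun e' _ hne => ?_) (by simp)] at h2
  · rcases hu.1 e with a | a | a
    · exact absurd a hue
    · rw [a] at h2 ⊢; linarith
    · rw [a] at h2 ⊢; linarith
  · by_contra hc
    exact hne ((hmem e').1 ⟨left_ne_zero_of_mul hc, right_ne_zero_of_mul hc⟩)

/-- Two shared terms of a line coincide, in position and sign. -/
theorem Line.eq_of_common {u w : ι → ℤ} (hu : IsTriple u) (hw : IsTriple w) (h : Line u w)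
    {a b : ι} (ha : u a ≠ 0) (ha' : w a ≠ 0) (hb : u b ≠ 0) (hb' : w b ≠ 0) :
    a = b ∧ w a = u a := by
  obtain ⟨e, -, hs, hu'⟩ := h.exists_common hu hw
  rw [hu' a ha ha', hu' b hb hb']
  exact ⟨rfl, hs⟩

/-- The third term of a triple. -/
theorem IsTriple.exists_third [DecidableEq ι] {u : ι → ℤ} (hu : IsTriple u) {a b : ι}
    (ha : u a ≠ 0) (hb : u b ≠ 0) (hab : a ≠ b) :
    ∃ c, u c ≠ 0 ∧ c ≠ a ∧ c ≠ b ∧ ∀ e, u e ≠ 0 → e = a ∨ e = b ∨ e = c := by
  have h : (((univ.filter fun e => u e ≠ 0).erase a).erase b).card = 1 := by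
    rw [card_erase_of_mem (by simp [hb, hab.symm]), card_erase_of_mem (by simp [ha]), hu.card_supp]
  obtain ⟨c, hc⟩ := card_eq_one.1 h
  have hc' : c ∈ ((univ.filter fun e => u e ≠ 0).erase a).erase b := by rw [hc]; simp
  simp only [mem_erase, mem_filter, mem_univ, true_and] at hc'
  refine ⟨c, hc'.2.2, hc'.2.1, hc'.1, fun e he => ?_⟩
  by_contra hne
  push Not at hne
  have : e ∈ ((univ.filter fun e => u e ≠ 0).erase a).erase b := by simp [he, hne.1, hne.2.1]
  rw [hc, mem_singleton] at this
  exact hne.2.2 this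

/-! ### The seven point pattern -/

/-- The four triples of the star pattern. -/
def pattern : List (List ℤ) :=
  [[1, 1, 1, 0, 0, 0, 0], [1, 0, 0, 1, 1, 0, 0], [1, 0, 0, 0, 0, 1, 1], [0, 1, 0, 1, 0, 1, 0]]

/-- All lists of signs of a given length. -/
def allVecs : ℕ → List (List ℤ)
  | 0 => [[]]
  | n + 1 => (allVecs n).flatMap fun l => [0 :: l, 1 :: l, (-1) :: l]

/-- Dot product of lists. -/
def ldot (p q : List ℤ) : ℤ := (List.zipWith (· * ·) p q).sum

/-- Entrywise absolute value. -/
def labs (p : List ℤ) : List ℤ := p.map fun x => |x|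

/-- The conditions against one member of the first row. -/
def okAt (same : Bool) (S t : List ℤ) : Bool :=
  if same then ldot S (labs t) == 1 && ldot S t == 1
  else (ldot S (labs t) == 0 || ldot S (labs t) == 2) && ldot S t == 0

/-- The admissible members of the second row in column `j`. -/
def cands (j : ℕ) : List (List ℤ) :=
  (allVecs 7).filter fun t => decide ((labs t).sum ≤ 3) &&
    (List.range 4).all fun k => okAt (k == j) (pattern.getD k []) t

/-- The condition between two members of the second row. -/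
def okPair (p q : List ℤ) : Bool :=
  (ldot (labs p) (labs q) == 0 && (labs p).sum != 3 && (labs q).sum != 3) ||
    (ldot (labs p) (labs q) == 1 && ldot p q == 1)

theorem mem_allVecs {l : List ℤ} (h : ∀ x ∈ l, x = 0 ∨ x = 1 ∨ x = -1) :
    l ∈ allVecs l.length := by
  induction l with
  | nil => simp [allVecs]
  | cons x l ih =>
    simp only [List.length_cons, allVecs, List.mem_flatMap]
    refine ⟨l, ih fun y hy => h y (List.mem_cons_of_mem _ hy), ?_⟩
    rcases h x List.mem_cons_self with rfl | rfl | rfl <;> simp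

theorem no_second_row :
    ((cands 3).all fun p => (cands 0).all fun q => !okPair p q ||
      (cands 1).all fun r => !(okPair p r && okPair q r) ||
        (cands 2).all fun s => !(okPair p s && okPair q s && okPair r s)) = true := by
  decide +kernel

theorem ldot_ofFn {n : ℕ} (a b : Fin n → ℤ) :
    ldot (List.ofFn a) (List.ofFn b) = ∑ i, a i * b i := by
  have : List.zipWith (· * ·) (List.ofFn a) (List.ofFn b) = List.ofFn fun i => a i * b i := by
    apply List.ext_getElem <;> simp
  rw [ldot, this, List.sum_ofFn]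

theorem labs_ofFn {n : ℕ} (a : Fin n → ℤ) : labs (List.ofFn a) = List.ofFn fun i => |a i| := by
  rw [labs, List.map_ofFn]; rfl

/-- A star in the first row is incompatible with any second row. -/
theorem star_false {S T : Fin 4 → ι → ℤ} (hS : ∀ k, IsTriple (S k)) (hT : ∀ k, IsTriple (T k))
    (hline : ∀ a b, a ≠ b → Line (T a) (T b)) (hcol : ∀ k, Line (S k) (T k))
    (hcross : ∀ a b, a ≠ b → Cross (S a) (T b))
    (f : Fin 7 → ι) (hf : Function.Injective f) (σ : Fin 7 → ℤ) (hσ : ∀ i, σ i = 1 ∨ σ i = -1)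
    (hpat : ∀ (k : Fin 4) (i : Fin 7), S k (f i) = σ i * (pattern.getD k []).getD i 0)
    (hout : ∀ k e, S k e ≠ 0 → ∃ i, f i = e) : False := by
  classical
  set t : Fin 4 → Fin 7 → ℤ := fun j i => σ i * T j (f i) with ht
  set P : Fin 4 → Fin 7 → ℤ := fun k i => (pattern.getD k []).getD i 0 with hP
  have hPl : ∀ k : Fin 4, pattern.getD k [] = List.ofFn (P k) := by decide
  have hP01 : ∀ k i, P k i = 0 ∨ P k i = 1 := by decide
  have habs : ∀ j i, |t j i| = |T j (f i)| := by
    intro j i
    rcases hσ i with h | h <;> simp [ht, h]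
  have hU : ∀ g : ι → ℤ, ∑ e ∈ univ.image f, g e = ∑ i, g (f i) := fun g =>
    sum_image fun a _ b _ h => hf h
  have hmeet : ∀ k j, common (S k) (T j) = ∑ i, P k i * |t j i| ∧
      dot (S k) (T j) = ∑ i, P k i * t j i := by
    intro k j
    have hz : ∀ e ∈ (univ : Finset ι), e ∉ univ.image f → S k e = 0 := by
      intro e _ he
      by_contra h
      obtain ⟨i, rfl⟩ := hout k e h
      exact he (mem_image_of_mem _ (mem_univ _))
    constructor
    · rw [common, ← sum_subset (subset_univ (univ.image f)) (fun e a b => by simp [hz e a b]), hU]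
      refine sum_congr rfl fun i _ => ?_
      rw [hpat, habs, abs_mul]
      show |σ i| * |P k i| * |T j (f i)| = P k i * |T j (f i)|
      rcases hσ i with h | h <;> rcases hP01 k i with h' | h' <;> rw [h, h'] <;> norm_num
    · rw [dot, ← sum_subset (subset_univ (univ.image f)) (fun e a b => by simp [hz e a b]), hU]
      refine sum_congr rfl fun i _ => ?_
      rw [hpat]
      show σ i * P k i * T j (f i) = P k i * (σ i * T j (f i))
      ring
  set L : Fin 4 → List ℤ := fun j => List.ofFn (t j) with hL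
  have hsum : ∀ j, (labs (L j)).sum = ∑ i, |T j (f i)| := fun j => by
    rw [hL, labs_ofFn, List.sum_ofFn]; simp only [habs]
  have hmem : ∀ j : Fin 4, L j ∈ cands j := by
    intro j
    simp only [cands, List.mem_filter, Bool.and_eq_true, decide_eq_true_eq, List.all_eq_true,
      List.mem_range]
    refine ⟨?_, ?_, ?_⟩
    · have := mem_allVecs (l := L j) (by
        intro x hx
        obtain ⟨i, rfl⟩ := List.mem_ofFn.1 hx
        rcases (hT j).1 (f i) with h | h | h <;> rcases hσ i with h' | h' <;> simp [ht, h, h'])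
      simpa [hL] using this
    · rw [hsum, ← hU fun e => |T j e|, ← (hT j).2]
      exact sum_le_sum_of_subset_of_nonneg (subset_univ _) fun e _ _ => abs_nonneg _
    · intro k hk
      obtain ⟨k', rfl⟩ : ∃ k' : Fin 4, (k' : ℕ) = k := ⟨⟨k, hk⟩, rfl⟩
      have e1 : ldot (pattern.getD k' []) (labs (L j)) = common (S k') (T j) := by
        rw [hPl, hL, labs_ofFn, ldot_ofFn, (hmeet k' j).1]
      have e2 : ldot (pattern.getD k' []) (L j) = dot (S k') (T j) := by
        rw [hPl, hL, ldot_ofFn, (hmeet k' j).2]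
      by_cases h : k' = j
      · subst h
        simp only [okAt, beq_self_eq_true, if_true]
        rw [e1, e2, (hcol k').1, (hcol k').2]
        rfl
      · obtain ⟨h1, h2⟩ := hcross k' j h
        have hb : ((k' : ℕ) == (j : ℕ)) = false := beq_false_of_ne (Fin.val_ne_of_ne h)
        simp only [okAt, hb, Bool.false_eq_true, if_false]
        rw [e1, e2, h2]
        rcases h1 with a | a <;> rw [a] <;> rfl
  have hpair : ∀ a b, a ≠ b → okPair (L a) (L b) = true := by
    intro a b hab
    obtain ⟨h1, h2⟩ := hline a b hab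
    set cin := ∑ e ∈ univ.image f, |T a e| * |T b e| with hcin
    set din := ∑ e ∈ univ.image f, T a e * T b e with hdin
    have ec : ldot (labs (L a)) (labs (L b)) = cin := by
      rw [hL, labs_ofFn, labs_ofFn, ldot_ofFn, hcin, hU]; simp only [habs]
    have ed : ldot (L a) (L b) = din := by
      rw [hL, ldot_ofFn, hdin, hU]
      refine sum_congr rfl fun i _ => ?_
      rcases hσ i with h | h <;> simp [ht, h]
    have hc0 : (0 : ℤ) ≤ cin := sum_nonneg fun e _ => mul_nonneg (abs_nonneg _) (abs_nonneg _)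
    have hc1 : cin + ∑ e ∈ (univ.image f)ᶜ, |T a e| * |T b e| = 1 := by
      rw [hcin, sum_add_sum_compl]; exact h1
    have hd1 : din + ∑ e ∈ (univ.image f)ᶜ, T a e * T b e = 1 := by
      rw [hdin, sum_add_sum_compl]; exact h2
    have hrest : |∑ e ∈ (univ.image f)ᶜ, T a e * T b e|
        ≤ ∑ e ∈ (univ.image f)ᶜ, |T a e| * |T b e| := by
      refine (abs_sum_le_sum_abs _ _).trans (le_of_eq ?_)
      simp [abs_mul]
    have hfull : ∀ c, (c = a ∨ c = b) → (labs (L c)).sum = 3 →
        ∑ e ∈ (univ.image f)ᶜ, |T a e| * |T b e| = 0 := by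
      intro c hc h3
      rw [hsum, ← hU fun e => |T c e|] at h3
      have h4 := (hT c).2
      rw [← sum_add_sum_compl (univ.image f), h3] at h4
      have h5 : ∑ e ∈ (univ.image f)ᶜ, |T c e| = 0 := by linarith
      rw [sum_eq_zero_iff_of_nonneg fun e _ => abs_nonneg _] at h5
      exact sum_eq_zero fun e he => by rcases hc with rfl | rfl <;> simp [h5 e he]
    have hcase : cin = 0 ∨ cin = 1 := by
      have : (0 : ℤ) ≤ ∑ e ∈ (univ.image f)ᶜ, |T a e| * |T b e| :=
        sum_nonneg fun e _ => mul_nonneg (abs_nonneg _) (abs_nonneg _)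
      omega
    simp only [okPair, ec, ed, Bool.or_eq_true, Bool.and_eq_true, beq_iff_eq, bne_iff_ne]
    rcases hcase with h | h
    · refine Or.inl ⟨⟨h, ?_⟩, ?_⟩ <;> intro h3
      · have := hfull a (Or.inl rfl) h3; omega
      · have := hfull b (Or.inr rfl) h3; omega
    · right
      have h0 : ∑ e ∈ (univ.image f)ᶜ, |T a e| * |T b e| = 0 := by omega
      rw [h0] at hrest
      have := abs_nonpos_iff.1 hrest
      exact ⟨h, by omega⟩
  have h := no_second_row
  simp only [List.all_eq_true, Bool.or_eq_true, Bool.not_eq_true', Bool.and_eq_false_imp] at h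
  have h1 := (h _ (hmem 3) _ (hmem 0)).resolve_left (by rw [hpair 3 0 (by decide)]; decide)
  have h2 := (h1 _ (hmem 1)).resolve_left (by
    simp [hpair 3 1 (by decide), hpair 0 1 (by decide)])
  have h3 := h2 _ (hmem 2)
  simp [hpair 3 2 (by decide), hpair 0 2 (by decide), hpair 1 2 (by decide)] at h3

theorem exists_fourth (p q r : Fin 4) : ∃ d, d ≠ p ∧ d ≠ q ∧ d ≠ r := by
  revert p q r; decide

theorem injective_four {α : Type*} {a b c d : α} (hab : a ≠ b) (hac : a ≠ c) (had : d ≠ a)
    (hbc : b ≠ c) (hbd : d ≠ b) (hcd : d ≠ c) : Function.Injective ![a, b, c, d] := by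
  intro i j h
  fin_cases i <;> fin_cases j
  all_goals first
    | rfl
    | exact absurd h hab | exact absurd h.symm hab | exact absurd h hac | exact absurd h.symm hac
    | exact absurd h had | exact absurd h.symm had | exact absurd h hbc | exact absurd h.symm hbc
    | exact absurd h hbd | exact absurd h.symm hbd | exact absurd h hcd | exact absurd h.symm hcd

/-- A row of four with a second row has a common term. -/
theorem four_common {S T : Fin 4 → ι → ℤ} (hS : ∀ k, IsTriple (S k)) (hT : ∀ k, IsTriple (T k))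
    (hrow : ∀ a b, a ≠ b → Line (S a) (S b)) (hline : ∀ a b, a ≠ b → Line (T a) (T b))
    (hcol : ∀ k, Line (S k) (T k)) (hcross : ∀ a b, a ≠ b → Cross (S a) (T b)) :
    ∃ e, ∀ k, S k e ≠ 0 := by
  classical
  by_contra hno
  push Not at hno
  by_cases h3 : ∃ (g : Fin 4 → Fin 4) (x : ι), Function.Injective g ∧
      S (g 0) x ≠ 0 ∧ S (g 1) x ≠ 0 ∧ S (g 2) x ≠ 0
  · obtain ⟨g, x, hg, hx0, hx1, hx2⟩ := h3
    set U : Fin 4 → ι → ℤ := fun k => S (g k) with hUdef
    have hU : ∀ a b, a ≠ b → Line (U a) (U b) := fun a b h => hrow _ _ (hg.ne h)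
    have hUt : ∀ k, IsTriple (U k) := fun k => hS _
    have hxd : U 3 x = 0 := by
      by_contra h
      obtain ⟨k, hk⟩ := hno x
      obtain ⟨k', rfl⟩ := (Finite.injective_iff_surjective.1 hg) k
      fin_cases k' <;> contradiction
    have hxs : ∀ k : Fin 4, k ≠ 3 → U k x = U 0 x := by
      intro k hk
      by_cases h0 : k = 0
      · rw [h0]
      have hkx : U k x ≠ 0 := by fin_cases k <;> simp_all
      exact ((hU 0 k (Ne.symm h0)).eq_of_common (hUt _) (hUt _) hx0 hkx hx0 hkx).2
    have hx : ∀ k : Fin 4, k ≠ 3 → U k x ≠ 0 := fun k hk => by rw [hxs k hk]; exact hx0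
    have hy : ∀ k : Fin 3, ∃ y, U 3 y ≠ 0 ∧ U k.castSucc y = U 3 y := by
      intro k
      obtain ⟨e, he, hs, -⟩ := (hU 3 k.castSucc (by fin_cases k <;> decide)).exists_common
        (hUt _) (hUt _)
      exact ⟨e, he, hs⟩
    choose y hy3 hys using hy
    have hyx : ∀ k, y k ≠ x := fun k h => hy3 k (h ▸ hxd)
    have hk3 : ∀ k : Fin 3, k.castSucc ≠ (3 : Fin 4) := by decide
    have hyinj : Function.Injective y := by
      intro a b h
      by_contra hab
      have := (hU a.castSucc b.castSucc (fun e => hab (Fin.castSucc_injective _ e))).eq_of_common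
        (hUt _) (hUt _) (a := x) (b := y a) (hx _ (hk3 a)) (hx _ (hk3 b))
        (by rw [hys]; exact hy3 a) (by rw [h, hys]; exact hy3 b)
      exact hyx a this.1.symm
    have hz : ∀ k : Fin 3, ∃ z, U k.castSucc z ≠ 0 ∧ z ≠ x ∧ z ≠ y k ∧
        ∀ e, U k.castSucc e ≠ 0 → e = x ∨ e = y k ∨ e = z := fun k =>
      (hUt _).exists_third (hx _ (hk3 k)) (by rw [hys]; exact hy3 k) (hyx k).symm
    choose z hz0 hzx hzy hzall using hz
    have hd : ∀ e, U 3 e ≠ 0 → ∃ k, e = y k := by
      obtain ⟨c, -, -, -, hc⟩ := (hUt 3).exists_third (hy3 0) (hy3 1) (hyinj.ne (by decide))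
      intro e he
      rcases hc e he with h | h | h
      · exact ⟨0, h⟩
      · exact ⟨1, h⟩
      · refine ⟨2, ?_⟩
        rcases hc (y 2) (hy3 2) with h' | h' | h'
        · exact absurd (hyinj h') (by decide)
        · exact absurd (hyinj h') (by decide)
        · rw [h, h']
    have hoff : ∀ (a b : Fin 3) (e : ι), a ≠ b → U a.castSucc e ≠ 0 → U b.castSucc e ≠ 0 → e = x :=
      fun a b e hab ha hb => ((hU a.castSucc b.castSucc
        (fun h => hab (Fin.castSucc_injective _ h))).eq_of_common (hUt _) (hUt _)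
          ha hb (hx _ (hk3 a)) (hx _ (hk3 b))).1
    have hyU : ∀ a b : Fin 3, a ≠ b → U b.castSucc (y a) = 0 := fun a b hab => by
      by_contra h
      exact hyx a (hoff a b _ hab (by rw [hys]; exact hy3 a) h)
    have hzU : ∀ a b : Fin 3, a ≠ b → U b.castSucc (z a) = 0 := fun a b hab => by
      by_contra h
      exact hzx a (hoff a b _ hab (hz0 a) h)
    have hz3 : ∀ a, U 3 (z a) = 0 := fun a => by
      by_contra h
      obtain ⟨k, hk⟩ := hd _ h
      have := (hU a.castSucc 3 (hk3 a)).eq_of_common (hUt _) (hUt _) (hz0 a) h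
        (by rw [hys]; exact hy3 a) (hy3 a)
      exact hzy a this.1
    refine star_false (S := U) (T := fun k => T (g k)) hUt (fun k => hT _)
      (fun a b h => hline _ _ (hg.ne h)) (fun k => hcol _) (fun a b h => hcross _ _ (hg.ne h))
      ![x, y 0, z 0, y 1, z 1, y 2, z 2] ?_
      ![U 0 x, U 3 (y 0), U 0 (z 0), U 3 (y 1), U 1 (z 1), U 3 (y 2), U 2 (z 2)] ?_ ?_ ?_
    · intro i j h
      have e1 : ∀ a b, y a ≠ z b := fun a b e => hy3 a (e ▸ hz3 b)
      have e2 : ∀ a b, a ≠ b → z a ≠ z b := fun a b hab e => hz0 b (e ▸ hzU a b hab)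
      fin_cases i <;> fin_cases j
      all_goals first
        | rfl
        | exact absurd (hyinj h) (by decide)
        | exact absurd h.symm (hyx _) | exact absurd h (hyx _)
        | exact absurd h.symm (hzx _) | exact absurd h (hzx _)
        | exact absurd h (e1 _ _) | exact absurd h.symm (e1 _ _)
        | exact absurd h (e2 _ _ (by decide : _ ≠ _))
    · intro i
      have hpm : ∀ (k : Fin 4) e, U k e ≠ 0 → U k e = 1 ∨ U k e = -1 :=
        fun k e he => ((hUt k).1 e).resolve_left he
      fin_cases i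
      exacts [hpm _ _ hx0, hpm _ _ (hy3 0), hpm _ _ (hz0 0), hpm _ _ (hy3 1), hpm _ _ (hz0 1),
        hpm _ _ (hy3 2), hpm _ _ (hz0 2)]
    · have a1 := hxs 1 (by decide)
      have a2 := hxs 2 (by decide)
      have b0 : U 0 (y 0) = U 3 (y 0) := hys 0
      have b1 : U 1 (y 1) = U 3 (y 1) := hys 1
      have b2 : U 2 (y 2) = U 3 (y 2) := hys 2
      have c01 : U 1 (y 0) = 0 := hyU 0 1 (by decide)
      have c02 : U 2 (y 0) = 0 := hyU 0 2 (by decide)
      have c10 : U 0 (y 1) = 0 := hyU 1 0 (by decide)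
      have c12 : U 2 (y 1) = 0 := hyU 1 2 (by decide)
      have c20 : U 0 (y 2) = 0 := hyU 2 0 (by decide)
      have c21 : U 1 (y 2) = 0 := hyU 2 1 (by decide)
      have d01 : U 1 (z 0) = 0 := hzU 0 1 (by decide)
      have d02 : U 2 (z 0) = 0 := hzU 0 2 (by decide)
      have d10 : U 0 (z 1) = 0 := hzU 1 0 (by decide)
      have d12 : U 2 (z 1) = 0 := hzU 1 2 (by decide)
      have d20 : U 0 (z 2) = 0 := hzU 2 0 (by decide)
      have d21 : U 1 (z 2) = 0 := hzU 2 1 (by decide)
      intro k i
      fin_cases k <;> fin_cases i <;>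
        simp [pattern, hxd, hz3, a1, a2, b0, b1, b2, c01, c02, c10, c12, c20, c21, d01, d02, d10,
          d12, d20, d21]
    · intro k e he
      have hlow : ∀ a : Fin 3, U a.castSucc e ≠ 0 →
          ∃ i, ![x, y 0, z 0, y 1, z 1, y 2, z 2] i = e := by
        intro a ha
        rcases hzall a e ha with rfl | rfl | rfl
        · exact ⟨0, rfl⟩
        · fin_cases a
          exacts [⟨1, rfl⟩, ⟨3, rfl⟩, ⟨5, rfl⟩]
        · fin_cases a
          exacts [⟨2, rfl⟩, ⟨4, rfl⟩, ⟨6, rfl⟩]
      induction k using Fin.lastCases with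
      | last =>
        obtain ⟨a, rfl⟩ := hd e he
        exact hlow a (by rw [hys]; exact hy3 a)
      | cast a => exact hlow a he
  · push Not at h3
    -- every term lies in exactly two members: a parity contradiction
    have hmult : ∀ e, (univ.filter fun k => S k e ≠ 0).card = 0 ∨
        (univ.filter fun k => S k e ≠ 0).card = 2 := by
      intro e
      by_contra hc
      push Not at hc
      obtain ⟨a, ha⟩ := Finset.card_pos.1 (Nat.pos_of_ne_zero hc.1)
      have hae : S a e ≠ 0 := (mem_filter.1 ha).2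
      have hle : (univ.filter fun k => S k e ≠ 0).card ≤ 2 := by
        by_contra hgt
        push Not at hgt
        obtain ⟨p, q, r, hp, hq, hr, hpq, hpr, hqr⟩ := Finset.two_lt_card_iff.1 hgt
        obtain ⟨d, hdp, hdq, hdr⟩ := exists_fourth p q r
        exact (mem_filter.1 hr).2 (h3 ![p, q, r, d] e (injective_four hpq hpr hdp hqr hdq hdr)
          (mem_filter.1 hp).2 (mem_filter.1 hq).2)
      have h1 : (univ.filter fun k => S k e ≠ 0).card = 1 := by omega
      obtain ⟨w, hw⟩ := card_eq_one.1 h1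
      have honly : ∀ b, S b e ≠ 0 → b = a := fun b hb => by
        have h1 : b ∈ ({w} : Finset (Fin 4)) := hw ▸ mem_filter.2 ⟨mem_univ _, hb⟩
        have h2 : a ∈ ({w} : Finset (Fin 4)) := hw ▸ ha
        rw [mem_singleton] at h1 h2
        rw [h1, h2]
      -- the three other members need three distinct terms of `S a` other than `e`
      have hc : ∀ b : {b : Fin 4 // b ≠ a}, ∃ c, (S a c ≠ 0 ∧ c ≠ e) ∧ S b c ≠ 0 := by
        rintro ⟨b, hb⟩
        obtain ⟨c, hc, hs, -⟩ := (hrow a b hb.symm).exists_common (hS a) (hS b)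
        exact ⟨c, ⟨hc, fun h => hb (honly b (h ▸ hs ▸ hc))⟩, hs ▸ hc⟩
      choose c hca hcb using hc
      have hinj : Function.Injective c := by
        intro p q h
        by_contra hpq
        obtain ⟨d, hda, hdp, hdq⟩ := exists_fourth a p.1 q.1
        refine hcb q ?_
        rw [← h]
        exact h3 ![a, p.1, q.1, d] (c p) (injective_four p.2.symm q.2.symm hda
          (fun h => hpq (Subtype.ext h)) hdp hdq) (hca p).1 (hcb p)
      have h2 := Fintype.card_le_of_injective
        (fun b => (⟨c b, hca b⟩ : {x // S a x ≠ 0 ∧ x ≠ e}))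
        (fun p q h => hinj (congrArg Subtype.val h))
      rw [Fintype.card_subtype, Fintype.card_subtype] at h2
      have h4 : (univ.filter fun x => S a x ≠ 0 ∧ x ≠ e).card = 2 := by
        rw [show (univ.filter fun x => S a x ≠ 0 ∧ x ≠ e) =
          (univ.filter fun x => S a x ≠ 0).erase e from by ext; simp [and_comm],
          card_erase_of_mem (by simp [hae]), (hS a).card_supp]
      rw [h4, filter_ne', card_erase_of_mem (mem_univ _), card_univ, Fintype.card_fin] at h2
      omega
    have h0 : (∑ k, common (S k) (T 0)) % 2 = 0 := by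
      simp only [common]
      rw [sum_comm]
      refine Int.emod_eq_zero_of_dvd (dvd_sum fun e _ => ?_)
      rw [← sum_mul]
      refine dvd_mul_of_dvd_left ?_ _
      have : ∑ k, |S k e| = ((univ.filter fun k => S k e ≠ 0).card : ℤ) := by
        rw [Finset.card_filter, Nat.cast_sum]
        refine sum_congr rfl fun k _ => ?_
        by_cases h : S k e = 0
        · simp [h]
        · simp [h, (hS k).abs_eq_one h]
      rw [this]
      rcases hmult e with h | h <;> simp [h]
    rw [Fin.sum_univ_four, (hcol 0).1] at h0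
    have := (hcross 1 0 (by decide)).1
    have := (hcross 2 0 (by decide)).1
    have := (hcross 3 0 (by decide)).1
    omega

/-- An array as in Peterfalvi (3.5). -/
structure IsArray {I J : Type*} (v : I → J → ι → ℤ) : Prop where
  triple : ∀ i j, IsTriple (v i j)
  row : ∀ i j k, j ≠ k → Line (v i j) (v i k)
  col : ∀ i k j, i ≠ k → Line (v i j) (v k j)
  cross : ∀ i k j l, i ≠ k → j ≠ l → Cross (v i j) (v k l)

theorem IsArray.swap {I J : Type*} {v : I → J → ι → ℤ} (h : IsArray v) :
    IsArray fun j i => v i j :=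
  ⟨fun j i => h.triple i j, fun j i k e => h.col i k j e, fun j l i e => h.row i j l e,
    fun j l i k e e' => h.cross i k j l e' e⟩

/-- Rows of length at least four (or exactly two) have a common term. -/
theorem IsArray.row_common {I J : Type*} [Fintype J] {v : I → J → ι → ℤ} (h : IsArray v)
    [Nontrivial I] (hJ : Fintype.card J = 2 ∨ 4 ≤ Fintype.card J) (i : I) :
    ∃ a, ∀ j, v i j a ≠ 0 := by
  classical
  obtain ⟨j₀, j₁, hne⟩ := Fintype.one_lt_card_iff.1 (by omega : 1 < Fintype.card J)
  obtain ⟨a, ha, hs, hu⟩ := (h.row i j₀ j₁ hne).exists_common (h.triple _ _) (h.triple _ _)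
  refine ⟨a, fun j => ?_⟩
  by_cases h0 : j = j₀
  · exact h0 ▸ ha
  by_cases h1 : j = j₁
  · rw [h1, hs]; exact ha
  rcases hJ with hJ | hJ
  · exfalso
    have : ({j₀, j₁, j} : Finset J).card ≤ 2 := hJ ▸ Finset.card_le_univ _
    rw [card_eq_three.2 ⟨j₀, j₁, j, hne, Ne.symm h0, Ne.symm h1, rfl⟩] at this
    omega
  obtain ⟨l, hl⟩ : ∃ l, l ∉ ({j₀, j₁, j} : Finset J) := by
    by_contra hc
    push Not at hc
    have h' := Finset.card_le_card (fun x _ => hc x : (univ : Finset J) ⊆ {j₀, j₁, j})
    rw [card_univ] at h'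
    have h'' : ({j₀, j₁, j} : Finset J).card ≤ 3 := card_le_three
    omega
  simp only [mem_insert, mem_singleton, not_or] at hl
  obtain ⟨i', hi'⟩ := exists_ne i
  set g : Fin 4 → J := ![j₀, j₁, j, l] with hg
  have hginj : Function.Injective g :=
    injective_four hne (Ne.symm h0) hl.1 (Ne.symm h1) hl.2.1 hl.2.2
  obtain ⟨e, he⟩ := four_common (S := fun k => v i (g k)) (T := fun k => v i' (g k))
    (fun k => h.triple _ _) (fun k => h.triple _ _) (fun p q e => h.row _ _ _ (hginj.ne e))
    (fun p q e => h.row _ _ _ (hginj.ne e)) (fun k => h.col _ _ _ hi'.symm)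
    (fun p q e => h.cross _ _ _ _ hi'.symm (hginj.ne e))
  have := hu e (he 0) (he 1)
  subst this
  exact he 2

/-- The common term of a row is not the common term of a column. -/
theorem IsArray.row_ne_col {I J : Type*} [Fintype J] {v : I → J → ι → ℤ} (h : IsArray v)
    [Nontrivial I] (h4J : 4 ≤ Fintype.card J)
    {i : I} {j : J} {x y : ι} (ha : ∀ k, v i k x ≠ 0) (hb : ∀ k, v k j y ≠ 0) : x ≠ y := by
  classical
  intro e
  obtain ⟨i', hi'⟩ := exists_ne i
  have hx : v i' j x ≠ 0 := e ▸ hb i'
  have hk : ∀ k : {k : J // k ≠ j}, ∃ c, (v i' j c ≠ 0 ∧ c ≠ x) ∧ v i k c ≠ 0 := by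
    rintro ⟨k, hk⟩
    have hc := h.cross i i' k j hi'.symm hk
    by_contra hno
    push Not at hno
    have hone : ((univ.filter fun x => v i k x ≠ 0 ∧ v i' j x ≠ 0).card : ℤ) = 1 := by
      rw [Nat.cast_eq_one, card_eq_one]
      refine ⟨x, Finset.eq_singleton_iff_unique_mem.2 ⟨by simp [ha k, hx], fun x hx' => ?_⟩⟩
      by_contra hxa
      exact (mem_filter.1 hx').2.1 (hno x ⟨(mem_filter.1 hx').2.2, hxa⟩)
    rw [← common_eq_card (h.triple _ _) (h.triple _ _)] at hone
    have := hc.1
    omega
  choose c hc1 hc2 using hk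
  have hinj : Function.Injective c := by
    intro p q hpq
    by_contra hne'
    exact (hc1 p).2 ((h.row i p.1 q.1 (fun e => hne' (Subtype.ext e))).eq_of_common
      (h.triple _ _) (h.triple _ _) (hc2 p) (hpq ▸ hc2 q) (ha p.1) (ha q.1)).1
  have h2 := Fintype.card_le_of_injective
    (fun k => (⟨c k, hc1 k⟩ : {u // v i' j u ≠ 0 ∧ u ≠ x}))
    (fun p q h => hinj (congrArg Subtype.val h))
  rw [Fintype.card_subtype, Fintype.card_subtype] at h2
  have h5 : (univ.filter fun u => v i' j u ≠ 0 ∧ u ≠ x).card = 2 := by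
    rw [show (univ.filter fun u => v i' j u ≠ 0 ∧ u ≠ x) =
      (univ.filter fun x => v i' j x ≠ 0).erase x from by ext; simp [and_comm],
      card_erase_of_mem (by simp [hx]), (h.triple i' j).card_supp]
  rw [h5, filter_ne', card_erase_of_mem (mem_univ _), card_univ] at h2
  omega

/-- Decomposition of the array: a term for each row, each column and each place, all different. -/
theorem IsArray.decompose {I J : Type*} [Fintype I] [Fintype J] {v : I → J → ι → ℤ}
    (h : IsArray v) (hI : Fintype.card I = 2 ∨ 4 ≤ Fintype.card I)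
    (hJ : Fintype.card J = 2 ∨ 4 ≤ Fintype.card J)
    (h4 : 4 ≤ Fintype.card I ∨ 4 ≤ Fintype.card J) :
    ∃ f : I ⊕ J ⊕ (I × J) → ι, Function.Injective f ∧ ∃ s : I ⊕ J ⊕ (I × J) → ℤ,
      (∀ x, s x = 1 ∨ s x = -1) ∧ ∀ i j e, v i j e ≠ 0 →
        (e = f (.inl i) ∧ v i j e = s (.inl i)) ∨ (e = f (.inr (.inl j)) ∧ v i j e = s (.inr (.inl j)))
          ∨ (e = f (.inr (.inr (i, j))) ∧ v i j e = s (.inr (.inr (i, j)))) := by
  classical
  haveI : Nontrivial I := Fintype.one_lt_card_iff_nontrivial.1 (by omega)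
  haveI : Nontrivial J := Fintype.one_lt_card_iff_nontrivial.1 (by omega)
  choose a ha using h.row_common hJ
  choose b hb using fun j => h.swap.row_common hI j
  -- a row term is never a column term
  have hne : ∀ i j, a i ≠ b j := by
    intro i j
    rcases h4 with h4 | h4
    · exact (h.swap.row_ne_col h4 (hb j) (ha i)).symm
    · exact h.row_ne_col h4 (ha i) (hb j)
  choose c hc hca hcb hall using fun i j => (h.triple i j).exists_third (ha i j) (hb j i) (hne i j)
  have hA : ∀ i i' k, i' ≠ i → v i' k (a i) = 0 := fun i i' k hii => by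
    by_contra hc'
    exact hne i k ((h.col i i' k hii.symm).eq_of_common (h.triple _ _) (h.triple _ _) (ha i k) hc'
      (hb k i) (hb k i')).1
  have hB : ∀ j k i', k ≠ j → v i' k (b j) = 0 := fun j k i' hjk => by
    by_contra hc'
    exact hne i' j ((h.row i' j k hjk.symm).eq_of_common (h.triple _ _) (h.triple _ _) (hb j i') hc'
      (ha i' j) (ha i' k)).1.symm
  have hC : ∀ i j i' k, (i', k) ≠ (i, j) → v i' k (c i j) = 0 := by
    intro i j i' k hne'
    by_contra hc'
    by_cases h1 : i' = i
    · subst h1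
      have hk : j ≠ k := fun e => hne' (by rw [e])
      exact hca i' j ((h.row i' j k hk).eq_of_common (h.triple _ _) (h.triple _ _) (hc i' j) hc'
        (ha i' j) (ha i' k)).1
    by_cases h2 : k = j
    · subst h2
      exact hcb i k ((h.col i i' k (Ne.symm h1)).eq_of_common (h.triple _ _) (h.triple _ _)
        (hc i k) hc' (hb k i) (hb k i')).1
    have hone : ((univ.filter fun x => v i j x ≠ 0 ∧ v i' k x ≠ 0).card : ℤ) = 1 := by
      rw [Nat.cast_eq_one, card_eq_one]
      refine ⟨c i j, Finset.eq_singleton_iff_unique_mem.2 ⟨by simp [hc i j, hc'], fun x hx => ?_⟩⟩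
      rcases hall i j x (mem_filter.1 hx).2.1 with rfl | rfl | rfl
      · exact absurd (hA i i' k h1) (mem_filter.1 hx).2.2
      · exact absurd (hB j k i' h2) (mem_filter.1 hx).2.2
      · rfl
    rw [← common_eq_card (h.triple _ _) (h.triple _ _)] at hone
    have := (h.cross i i' j k (Ne.symm h1) (Ne.symm h2)).1
    omega
  obtain ⟨i₀, -⟩ := exists_pair_ne I
  obtain ⟨j₀, -⟩ := exists_pair_ne J
  let f : I ⊕ J ⊕ (I × J) → ι := Sum.elim a (Sum.elim b fun p => c p.1 p.2)
  let s : I ⊕ J ⊕ (I × J) → ℤ := Sum.elim (fun i => v i j₀ (a i))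
    (Sum.elim (fun j => v i₀ j (b j)) fun p => v p.1 p.2 (c p.1 p.2))
  refine ⟨f, ?_, s, ?_, ?_⟩
  · rintro (i | j | ⟨i, j⟩) (i' | j' | ⟨i', j'⟩) e <;> simp only [f, Sum.elim_inl, Sum.elim_inr] at e
    · by_contra hne'
      exact ha i j₀ (e ▸ hA i' i j₀ (fun h => hne' (by rw [h])))
    · exact absurd e (hne i j')
    · by_cases h1 : i' = i
      · subst h1; exact absurd e.symm (hca i' j')
      · exact absurd (hA i i' j' h1) (e ▸ hc i' j')
    · exact absurd e.symm (hne i' j)
    · by_contra hne'
      exact hb j i₀ (e ▸ hB j' j i₀ (fun h => hne' (by rw [h])))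
    · by_cases h1 : j' = j
      · subst h1; exact absurd e.symm (hcb i' j')
      · exact absurd (hB j j' i' h1) (e ▸ hc i' j')
    · by_cases h1 : i' = i
      · subst h1; exact absurd e (hca i' j)
      · exact absurd (hA i' i j (Ne.symm h1)) (e ▸ hc i j)
    · by_cases h1 : j' = j
      · subst h1; exact absurd e (hcb i j')
      · exact absurd (hB j' j i (Ne.symm h1)) (e ▸ hc i j)
    · by_contra hne'
      exact hc i j (e ▸ hC i' j' i j (fun h => hne' (by rw [h])))
  · rintro (i | j | ⟨i, j⟩)
    · exact ((h.triple i j₀).1 _).resolve_left (ha i j₀)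
    · exact ((h.triple i₀ j).1 _).resolve_left (hb j i₀)
    · exact ((h.triple i j).1 _).resolve_left (hc i j)
  · intro i j e he
    rcases hall i j e he with rfl | rfl | rfl
    · refine Or.inl ⟨rfl, ?_⟩
      by_cases h1 : j = j₀
      · subst h1; rfl
      · exact ((h.row i j₀ j (Ne.symm h1)).eq_of_common (h.triple _ _) (h.triple _ _) (ha i j₀)
          he (ha i j₀) he).2
    · refine Or.inr (Or.inl ⟨rfl, ?_⟩)
      by_cases h1 : i = i₀
      · subst h1; rfl
      · exact ((h.col i₀ i j (Ne.symm h1)).eq_of_common (h.triple _ _) (h.triple _ _) (hb j i₀)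
          he (hb j i₀) he).2
    · exact Or.inr (Or.inr ⟨rfl, rfl⟩)

end Cfsg.Agent.OddOrder.PF3.Grid
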